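import Mathlib.AlgebraicGeometry.Morphisms.Finite
import Mathlib.AlgebraicGeometry.Restrict

/-!
# Shrinking the base to separate finite opens
-/

universe u

open AlgebraicGeometry CategoryTheory Limits

namespace Groth.Agent.Weight

variable {P T : Scheme.{u}} (p : P ⟶ T)

/-- The image of the part of a finite open outside another open is closed. -/
theorem isClosed_image_diff (B : P.Opens) [IsFinite (B.ι ≫ p)] (O : P.Opens) :
    IsClosed (p '' ((B : Set P) \ O)) := by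
  have h := (B.ι ≫ p).isClosedMap _ (O.2.isClosed_compl.preimage B.ι.continuous)
  convert h using 1
  ext t
  constructor
  · rintro ⟨z, ⟨hz, hzO⟩, rfl⟩
    exact ⟨⟨z, hz⟩, hzO, rfl⟩
  · rintro ⟨z, hz, rfl⟩
    exact ⟨z.1, ⟨z.2, hz⟩, rfl⟩

theorem isFinite_restrict_comp (A : P.Opens) [IsFinite (A.ι ≫ p)] (N : T.Opens) :
    IsFinite ((A.ι ∣_ (p ⁻¹ᵁ N)) ≫ (p ∣_ N)) := by
  rw [← morphismRestrict_comp]
  exact IsZariskiLocalAtTarget.restrict ‹_› N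

/-- Near a point, opens finite over the base which split the fibre split everything. -/
theorem exists_open_decomp (A : P.Opens) [IsFinite (A.ι ≫ p)] {ι : Type*} [Finite ι]
    (B : ι → P.Opens) [∀ i, IsFinite ((B i).ι ≫ p)] (t : T)
    (h1 : ∀ i, ∀ z, z ∈ B i → p z = t → z ∈ A) (h2 : ∀ z, z ∈ A → p z = t → ∃ i, z ∈ B i)
    (h3 : ∀ i j z, z ∈ B i → z ∈ B j → p z = t → i = j) :
    ∃ N : T.Opens, t ∈ N ∧ (∀ i, ∀ z, z ∈ B i → p z ∈ N → z ∈ A) ∧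
      ∀ z, z ∈ A → p z ∈ N → ∃! i, z ∈ B i := by
  let bad1 : ι → Set T := fun i => p '' ((B i : Set P) \ A)
  let bad2 : Set T := p '' ((A : Set P) \ (⨆ i, B i : P.Opens))
  have hc1 : IsClosed (⋃ i, bad1 i) := isClosed_iUnion_of_finite fun i => isClosed_image_diff p (B i) A
  have hc2 : IsClosed bad2 := isClosed_image_diff p A _
  let N1 : T.Opens := ⟨((⋃ i, bad1 i) ∪ bad2)ᶜ, (hc1.union hc2).isOpen_compl⟩
  have ht1 : t ∈ N1 := by
    show t ∉ (⋃ i, bad1 i) ∪ bad2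
    rintro (h | ⟨z, ⟨hzA, hz⟩, hzt⟩)
    · obtain ⟨i, z, ⟨hzB, hzA⟩, hzt⟩ := Set.mem_iUnion.1 h
      exact hzA (h1 i z hzB hzt)
    · obtain ⟨i, hi⟩ := h2 z hzA hzt
      exact hz (TopologicalSpace.Opens.mem_iSup.2 ⟨i, hi⟩)
  have hB : ∀ i, ∀ z, z ∈ B i → p z ∈ N1 → z ∈ A := fun i z hz hzN => by
    by_contra hzA
    exact hzN (Or.inl (Set.mem_iUnion.2 ⟨i, z, ⟨hz, hzA⟩, rfl⟩))
  let U1 := p ⁻¹ᵁ N1
  let SA := A.ι ∣_ U1
  let SB := fun i => (B i).ι ∣_ U1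
  have hrange : ∀ (O : P.Opens), Set.range (O.ι ∣_ U1) = U1.ι ⁻¹' (O : Set P) := by
    intro O
    ext z
    constructor
    · rintro ⟨y, rfl⟩
      show U1.ι ((O.ι ∣_ U1) y) ∈ O
      rw [← Scheme.Hom.comp_apply, morphismRestrict_ι]
      exact ((O.ι ⁻¹ᵁ U1).ι y).2
    · intro hz
      refine ⟨⟨⟨U1.ι z, hz⟩, z.2⟩, U1.ι.isOpenEmbedding.injective ?_⟩
      rw [← Scheme.Hom.comp_apply, morphismRestrict_ι]
      rfl
  let k := fun i => IsOpenImmersion.lift SA (SB i) (by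
    rw [hrange, hrange]
    exact fun z hz => hB i _ hz z.2)
  have hk : ∀ i, k i ≫ SA = SB i := fun i => IsOpenImmersion.lift_fac ..
  haveI : IsFinite (SA ≫ (p ∣_ N1)) := isFinite_restrict_comp p A N1
  haveI : ∀ i, IsFinite (k i) := fun i => by
    haveI : IsFinite (k i ≫ SA ≫ (p ∣_ N1)) := by
      rw [← Category.assoc, hk]
      exact isFinite_restrict_comp p (B i) N1
    exact IsFinite.of_comp (k i) (SA ≫ (p ∣_ N1))
  let bad3 : {ij : ι × ι // ij.1 ≠ ij.2} → Set N1 := fun ij =>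
    (SA ≫ (p ∣_ N1)) '' (Set.range (k ij.1.1) ∩ Set.range (k ij.1.2))
  have hc3 : IsClosed (⋃ ij, bad3 ij) := isClosed_iUnion_of_finite fun ij =>
    (SA ≫ (p ∣_ N1)).isClosedMap _
      ((k ij.1.1).isClosedMap.isClosed_range.inter (k ij.1.2).isClosedMap.isClosed_range)
  refine ⟨⟨N1.ι '' (⋃ ij, bad3 ij)ᶜ, N1.ι.isOpenEmbedding.isOpenMap _ hc3.isOpen_compl⟩, ?_, ?_, ?_⟩
  · refine ⟨⟨t, ht1⟩, ?_, rfl⟩
    rintro h
    obtain ⟨⟨⟨i, j⟩, hij⟩, y, ⟨⟨yi, hyi⟩, ⟨yj, hyj⟩⟩, hy⟩ := Set.mem_iUnion.1 h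
    let z := U1.ι (SA y)
    have hzt : p z = t := by
      rw [← Scheme.Hom.comp_apply, ← morphismRestrict_ι, Scheme.Hom.comp_apply]
      rw [Scheme.Hom.comp_apply] at hy
      rw [hy]; rfl
    have hmem : ∀ l yl, k l yl = y → z ∈ B l := fun l yl hyl => by
      show SA y ∈ U1.ι ⁻¹' (B l : Set P)
      rw [← hrange]
      exact ⟨yl, by rw [← hyl, ← Scheme.Hom.comp_apply, hk]⟩
    exact hij (h3 i j z (hmem i yi hyi) (hmem j yj hyj) hzt)
  · rintro i z hz ⟨n, -, hn⟩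
    exact hB i z hz (by rw [← hn]; exact n.2)
  · rintro z hzA ⟨n, hn3, hn⟩
    have hzN : p z ∈ N1 := by rw [← hn]; exact n.2
    have hex : ∃ i, z ∈ B i := by
      by_contra hne
      exact hzN (Or.inr ⟨z, ⟨hzA, fun h => hne (TopologicalSpace.Opens.mem_iSup.1 h)⟩, rfl⟩)
    obtain ⟨i, hi⟩ := hex
    refine ⟨i, hi, fun j hj => by_contra fun hne => hn3 (Set.mem_iUnion.2 ⟨⟨(j, i), hne⟩, ?_⟩)⟩
    have hz' : (⟨z, hzN⟩ : U1) ∈ Set.range SA := by rw [hrange]; exact hzA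
    obtain ⟨y, hy⟩ := hz'
    have hlift : ∀ l, z ∈ B l → y ∈ Set.range (k l) := fun l hl => by
      have : (⟨z, hzN⟩ : U1) ∈ Set.range (SB l) := by rw [hrange]; exact hl
      obtain ⟨yl, hyl⟩ := this
      exact ⟨yl, SA.isOpenEmbedding.injective (by rw [← Scheme.Hom.comp_apply, hk, hyl, hy])⟩
    refine ⟨y, ⟨hlift j hj, hlift i hi⟩, N1.ι.isOpenEmbedding.injective ?_⟩
    rw [Scheme.Hom.comp_apply, hy, ← Scheme.Hom.comp_apply, morphismRestrict_ι]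
    exact hn.symm

end Groth.Agent.Weight
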