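import Groth.Prelude.Def_MoreMor
import Mathlib.AlgebraicGeometry.Morphisms.QuasiFinite
import Mathlib.AlgebraicGeometry.Morphisms.Finite
import Mathlib.AlgebraicGeometry.ResidueField
import Mathlib.FieldTheory.SeparableDegree
import Mathlib.FieldTheory.IsAlgClosed.AlgebraicClosure
import Mathlib.Algebra.BigOperators.Finprod

/-!
# Fibre integrals as sums over geometric lifts
-/

universe u

open AlgebraicGeometry CategoryTheory Limits IsLocalRing

namespace Groth.Agent.Weight

variable {Ω : Type u} [Field Ω] {U V X : Scheme.{u}}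

/-- The image point of a field-valued point. -/
noncomputable abbrev pt (a : Spec (CommRingCat.of Ω) ⟶ X) : X := a (closedPoint Ω)

/-- The field-valued point over a given point attached to an embedding of its residue field. -/
noncomputable abbrev fieldPt (x : X) (e : X.residueField x ⟶ CommRingCat.of Ω) :
    Spec (CommRingCat.of Ω) ⟶ X :=
  Spec.map e ≫ X.fromSpecResidueField x

theorem pt_comp (a : Spec (CommRingCat.of Ω) ⟶ U) (π : U ⟶ V) : pt (a ≫ π) = π (pt a) := rfl

theorem pt_fieldPt (x : X) (e : X.residueField x ⟶ CommRingCat.of Ω) : pt (fieldPt x e) = x :=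
  X.fromSpecResidueField_apply x _

theorem fieldPt_comp (π : U ⟶ V) (z : U) (e : U.residueField z ⟶ CommRingCat.of Ω) :
    fieldPt z e ≫ π = fieldPt (π z) (π.residueFieldMap z ≫ e) := by
  simp only [fieldPt, Spec.map_comp, Category.assoc, Scheme.Hom.SpecMap_residueFieldMap_fromSpecResidueField]

theorem exists_eq_fieldPt (a : Spec (CommRingCat.of Ω) ⟶ X) (x : X) (h : pt a = x) :
    ∃ e, fieldPt x e = a := by
  subst h
  exact ⟨_, Scheme.descResidueField_stalkClosedPointTo_fromSpecResidueField Ω X a⟩

theorem fieldPt_injective (x : X) :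
    Function.Injective (fieldPt x : (X.residueField x ⟶ CommRingCat.of Ω) → _) := fun e e' h =>
  Spec.map_injective ((cancel_mono (X.fromSpecResidueField x)).1 h)

/-- Residue extensions at quasi-finite points are finite. -/
theorem finite_residueFieldMap (π : U ⟶ V) (z : U) (hz : π.QuasiFiniteAt z) :
    (π.residueFieldMap z).hom.Finite := by
  letI := (π.stalkMap z).hom.toAlgebra
  letI := (π.residueFieldMap z).hom.toAlgebra
  haveI : Algebra.QuasiFinite (V.presheaf.stalk (π z)) (U.presheaf.stalk z) := hz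
  letI : Algebra (V.presheaf.stalk (π z)) (U.residueField z) :=
    ((U.residue z).hom.comp (π.stalkMap z).hom).toAlgebra
  letI : Algebra (V.presheaf.stalk (π z)) (V.residueField (π z)) := (V.residue (π z)).hom.toAlgebra
  haveI : IsScalarTower (V.presheaf.stalk (π z)) (V.residueField (π z)) (U.residueField z) :=
    IsScalarTower.of_algebraMap_eq fun r => by
      show U.residue z (π.stalkMap z r) = π.residueFieldMap z (V.residue (π z) r)
      exact (ConcreteCategory.congr_hom (Scheme.residue_residueFieldMap π z) r).symm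
  let φ : U.presheaf.stalk z →ₐ[V.presheaf.stalk (π z)] U.residueField z :=
    { (U.residue z).hom with commutes' := fun _ => rfl }
  haveI : Algebra.QuasiFinite (V.presheaf.stalk (π z)) (U.residueField z) :=
    Algebra.QuasiFinite.of_surjective_algHom φ Ideal.Quotient.mk_surjective
  haveI : Algebra.QuasiFinite (V.residueField (π z)) (U.residueField z) :=
    Algebra.QuasiFinite.of_restrictScalars (V.presheaf.stalk (π z)) _ _
  exact RingHom.finite_algebraMap.mpr
    (Module.Finite.of_quasiFinite : Module.Finite (V.residueField (π z)) (U.residueField z))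

variable [IsAlgClosed Ω]

/-- A point over the image of a geometric point carries a lift. -/
theorem exists_lift_of_eq (π : U ⟶ V) (z : U) (hz : π.QuasiFiniteAt z)
    (t : Spec (CommRingCat.of Ω) ⟶ V) (h : π z = pt t) :
    ∃ a : Spec (CommRingCat.of Ω) ⟶ U, a ≫ π = t ∧ pt a = z := by
  obtain ⟨c, hc⟩ := exists_eq_fieldPt t (π z) h.symm
  letI := (π.residueFieldMap z).hom.toAlgebra
  letI : Algebra (V.residueField (π z)) Ω := c.hom.toAlgebra
  haveI : Module.Finite (V.residueField (π z)) (U.residueField z) :=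
    RingHom.finite_algebraMap.mp (finite_residueFieldMap π z hz)
  let σ : U.residueField z →ₐ[V.residueField (π z)] Ω := IsAlgClosed.lift
  refine ⟨fieldPt z (CommRingCat.ofHom σ.toRingHom), ?_, pt_fieldPt _ _⟩
  rw [fieldPt_comp, ← hc]
  congr 1
  ext r
  exact σ.commutes r

/-- Lifts with given image point are embeddings of residue fields. -/
theorem natCard_lifts_over (π : U ⟶ V) (z : U) (hz : π.QuasiFiniteAt z)
    (t : Spec (CommRingCat.of Ω) ⟶ V) (h : π z = pt t) :
    Nat.card {a : Spec (CommRingCat.of Ω) ⟶ U // a ≫ π = t ∧ pt a = z} =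
      (letI := (π.residueFieldMap z).hom.toAlgebra; Field.finSepDegree (V.residueField (π z)) (U.residueField z)) ∧
    Finite {a : Spec (CommRingCat.of Ω) ⟶ U // a ≫ π = t ∧ pt a = z} := by
  obtain ⟨c, hc⟩ := exists_eq_fieldPt t (π z) h.symm
  letI := (π.residueFieldMap z).hom.toAlgebra
  letI : Algebra (V.residueField (π z)) Ω := c.hom.toAlgebra
  haveI : Module.Finite (V.residueField (π z)) (U.residueField z) :=
    RingHom.finite_algebraMap.mp (finite_residueFieldMap π z hz)
  let e : (U.residueField z →ₐ[V.residueField (π z)] Ω) →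
      {a : Spec (CommRingCat.of Ω) ⟶ U // a ≫ π = t ∧ pt a = z} := fun σ =>
    ⟨fieldPt z (CommRingCat.ofHom σ.toRingHom), by
      rw [fieldPt_comp, ← hc]
      congr 1
      ext r
      exact σ.commutes r, pt_fieldPt _ _⟩
  have he : Function.Bijective e := by
    refine ⟨fun σ τ h => ?_, fun ⟨a, ha, haz⟩ => ?_⟩
    · have h2 := fieldPt_injective z (Subtype.ext_iff.1 h)
      exact AlgHom.ext fun r => congr($(h2).hom r)
    · obtain ⟨ε, rfl⟩ := exists_eq_fieldPt a z haz
      rw [fieldPt_comp, ← hc] at ha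
      have hε := fieldPt_injective _ ha
      exact ⟨{ ε.hom with commutes' := fun r => congr($(hε).hom r) }, Subtype.ext rfl⟩
  haveI : Finite (U.residueField z →ₐ[V.residueField (π z)] Ω) :=
    Finite.of_fintype _
  exact ⟨(Nat.card_eq_of_bijective e he).symm.trans
    (Field.finSepDegree_eq_of_isAlgClosed _ _ _).symm, Finite.of_surjective e he.2⟩

/-- Geometric lifts are finitely many for quasi-finite morphisms with finite fibres. -/
theorem finite_lifts (π : U ⟶ V) (hπ : ∀ z, π.QuasiFiniteAt z) (t : Spec (CommRingCat.of Ω) ⟶ V)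
    (hfin : (π ⁻¹' {pt t}).Finite) :
    Finite {a : Spec (CommRingCat.of Ω) ⟶ U // a ≫ π = t} := by
  have hcov : {a : Spec (CommRingCat.of Ω) ⟶ U | a ≫ π = t} ⊆
      ⋃ z ∈ π ⁻¹' {pt t}, {a | a ≫ π = t ∧ pt a = z} := fun a ha =>
    Set.mem_biUnion (x := pt a) (show π (pt a) = pt t by rw [← pt_comp, ha]) ⟨ha, rfl⟩
  exact (hfin.biUnion fun z hz => Set.finite_coe_iff.1 (natCard_lifts_over π z (hπ z) t hz).2).subset
    hcov |>.to_subtype

/-- The fibre integral is the sum over geometric lifts. -/
theorem fibreIntegral_eq (π : U ⟶ V) (hπ : ∀ z, π.QuasiFiniteAt z) (w : U → ℤ)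
    (t : Spec (CommRingCat.of Ω) ⟶ V) (v : V) (hv : pt t = v) (hfin : (π ⁻¹' {v}).Finite) :
    MoreMor.fibreIntegral π w v =
      ∑ᶠ a : {a : Spec (CommRingCat.of Ω) ⟶ U // a ≫ π = t}, w (pt a.1) := by
  classical
  subst hv
  haveI := finite_lifts π hπ t hfin
  haveI : Finite {z : U // π z = pt t} := hfin.to_subtype
  letI := Fintype.ofFinite {z : U // π z = pt t}
  letI := Fintype.ofFinite {a : Spec (CommRingCat.of Ω) ⟶ U // a ≫ π = t}
  unfold MoreMor.fibreIntegral
  rw [finsum_eq_sum_of_fintype, finsum_eq_sum_of_fintype]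
  let P : {a : Spec (CommRingCat.of Ω) ⟶ U // a ≫ π = t} → {z : U // π z = pt t} := fun a =>
    ⟨pt a.1, by rw [← pt_comp, a.2]⟩
  rw [← Finset.sum_fiberwise Finset.univ P (fun a => w (pt a.1))]
  refine Finset.sum_congr rfl fun z _ => ?_
  have h1 : ∀ a ∈ (Finset.univ.filter fun a => P a = z), w (pt a.1) = w z.1 := fun a ha => by
    rw [← (Finset.mem_filter.1 ha).2]
  rw [Finset.sum_congr rfl h1, Finset.sum_const, nsmul_eq_mul, mul_comm]
  congr 1
  rw [← (natCard_lifts_over π z.1 (hπ z.1) t z.2).1]
  norm_cast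
  rw [← Fintype.card_subtype, ← Nat.card_eq_fintype_card]
  exact Nat.card_congr
    { toFun := fun a => ⟨⟨a.1, a.2.1⟩, Subtype.ext a.2.2⟩
      invFun := fun a => ⟨a.1.1, a.1.2, congrArg Subtype.val a.2⟩
      left_inv := fun _ => rfl
      right_inv := fun _ => rfl }

/-- Every point of the target is the image of a geometric point. -/
theorem exists_geomPt (v : V) : ∃ t : Spec (CommRingCat.of (AlgebraicClosure (V.residueField v))) ⟶ V,
    pt t = v :=
  ⟨fieldPt v (CommRingCat.ofHom (algebraMap (V.residueField v) (AlgebraicClosure (V.residueField v)))),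
    pt_fieldPt _ _⟩

end Groth.Agent.Weight
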