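import Groth.Agent.Lib.Weight4.Basic

/-!
# Weightings on opens and of composites
-/

universe u

open AlgebraicGeometry CategoryTheory Limits IsLocalRing

namespace Groth.Agent.Weight

variable {X Y Z : Scheme.{u}}

/-- Fibre integrals are invariant under isomorphisms of the source. -/
theorem fibreIntegral_iso {U U' V : Scheme.{u}} (e : U' ⟶ U) [IsIso e] (π : U ⟶ V) [IsFinite π]
    (φ : U → ℤ) (v : V) :
    MoreMor.fibreIntegral (e ≫ π) (fun z => φ (e z)) v = MoreMor.fibreIntegral π φ v := by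
  have h := fibreIntegral_baseChange (fun v => π.finite_preimage_singleton v)
    (IsPullback.of_horiz_isIso (fst := e) (snd := e ≫ π) (f := π) (g := 𝟙 V) ⟨by simp⟩) φ v
  exact h

theorem fibreIntegral_congr {U V : Scheme.{u}} (π : U ⟶ V) (φ φ' : U → ℤ) (v : V)
    (h : ∀ z, π z = v → φ z = φ' z) : MoreMor.fibreIntegral π φ v = MoreMor.fibreIntegral π φ' v := by
  unfold MoreMor.fibreIntegral
  exact finsum_congr fun z => by rw [h z.1 z.2]

theorem fibreIntegral_const_mul {U V : Scheme.{u}} (π : U ⟶ V) [IsFinite π] (c : ℤ) (φ : U → ℤ) (v : V) :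
    MoreMor.fibreIntegral π (fun z => c * φ z) v = c * MoreMor.fibreIntegral π φ v := by
  obtain ⟨t, ht⟩ := exists_geomPt v
  haveI := finite_lifts π (fun z => π.quasiFiniteAt z) t (π.finite_preimage_singleton _)
  rw [fibreIntegral_eq π (fun z => π.quasiFiniteAt z) _ t v ht (π.finite_preimage_singleton _),
    fibreIntegral_eq π (fun z => π.quasiFiniteAt z) φ t v ht (π.finite_preimage_singleton _),
    mul_finsum _ _]

/-- Transitivity of fibre integrals. -/
theorem fibreIntegral_comp {U B V : Scheme.{u}} (k : U ⟶ B) (e : B ⟶ V) [IsFinite k] [IsFinite e]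
    (φ : U → ℤ) (ψ : B → ℤ) (v : V) :
    MoreMor.fibreIntegral (k ≫ e) (fun z => φ z * ψ (k z)) v =
      MoreMor.fibreIntegral e (fun b => ψ b * MoreMor.fibreIntegral k φ b) v := by
  classical
  obtain ⟨t, ht⟩ := exists_geomPt v
  let Ω := AlgebraicClosure (V.residueField v)
  haveI hc := finite_lifts e (fun z => e.quasiFiniteAt z) t (e.finite_preimage_singleton _)
  haveI ha := finite_lifts (k ≫ e) (fun z => (k ≫ e).quasiFiniteAt z) t
    ((k ≫ e).finite_preimage_singleton _)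
  haveI : ∀ c : {c : Spec (CommRingCat.of Ω) ⟶ B // c ≫ e = t},
      Finite {a : Spec (CommRingCat.of Ω) ⟶ U // a ≫ k = c.1} := fun c =>
    finite_lifts k (fun z => k.quasiFiniteAt z) c.1 (k.finite_preimage_singleton _)
  letI := Fintype.ofFinite {c : Spec (CommRingCat.of Ω) ⟶ B // c ≫ e = t}
  letI := fun c : {c : Spec (CommRingCat.of Ω) ⟶ B // c ≫ e = t} =>
    Fintype.ofFinite {a : Spec (CommRingCat.of Ω) ⟶ U // a ≫ k = c.1}
  rw [fibreIntegral_eq (k ≫ e) (fun z => (k ≫ e).quasiFiniteAt z) _ t v ht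
      ((k ≫ e).finite_preimage_singleton _),
    fibreIntegral_eq e (fun z => e.quasiFiniteAt z) _ t v ht (e.finite_preimage_singleton _)]
  let E : (Σ c : {c : Spec (CommRingCat.of Ω) ⟶ B // c ≫ e = t},
      {a : Spec (CommRingCat.of Ω) ⟶ U // a ≫ k = c.1}) →
      {a : Spec (CommRingCat.of Ω) ⟶ U // a ≫ k ≫ e = t} := fun s =>
    ⟨s.2.1, by rw [← Category.assoc, s.2.2]; exact s.1.2⟩
  have hE : Function.Bijective E := by
    refine ⟨fun ⟨⟨c, hc⟩, a, ha⟩ ⟨⟨c', hc'⟩, a', ha'⟩ h => ?_, fun a =>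
      ⟨⟨⟨a.1 ≫ k, by rw [Category.assoc]; exact a.2⟩, a.1, rfl⟩, rfl⟩⟩
    obtain rfl : a = a' := congrArg Subtype.val h
    obtain rfl : c = c' := ha.symm.trans ha'
    rfl
  rw [← finsum_eq_of_bijective E hE (fun _ => rfl), finsum_eq_sum_of_fintype, Fintype.sum_sigma,
    finsum_eq_sum_of_fintype]
  refine Finset.sum_congr rfl fun c _ => ?_
  rw [fibreIntegral_eq k (fun z => k.quasiFiniteAt z) φ c.1 _ rfl (k.finite_preimage_singleton _),
    finsum_eq_sum_of_fintype, Finset.mul_sum]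
  refine Finset.sum_congr rfl fun a _ => ?_
  show φ (pt a.1) * ψ (k (pt a.1)) = _
  rw [← pt_comp, a.2, mul_comm]

/-- Restriction of a weighting to an open. -/
theorem isWeighting_restrict_open (f : X ⟶ Y) [LocallyQuasiFinite f] [LocallyOfFiniteType f]
    (w : X → ℤ) (hw : MoreMor.IsWeighting f w) (X' : X.Opens) :
    MoreMor.IsWeighting (X'.ι ≫ f) (fun x => w (X'.ι x)) := by
  intro V g _ U hU
  let j : pullback (X'.ι ≫ f) g ⟶ pullback f g :=
    pullback.lift (pullback.fst _ _ ≫ X'.ι) (pullback.snd _ _) (by rw [Category.assoc, pullback.condition])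
  have hj1 : j ≫ pullback.fst f g = pullback.fst _ _ ≫ X'.ι := pullback.lift_fst ..
  have hj2 : j ≫ pullback.snd f g = pullback.snd _ _ := pullback.lift_snd ..
  have hsq : IsPullback (pullback.fst (X'.ι ≫ f) g) j X'.ι (pullback.fst f g) :=
    IsPullback.of_bot (v₂₁ := pullback.snd f g) (v₂₂ := f) (h₃₁ := g)
      (by rw [hj2]; exact IsPullback.of_hasPullback _ _) hj1.symm (IsPullback.of_hasPullback f g)
  haveI : IsOpenImmersion j := MorphismProperty.of_isPullback hsq (inferInstance : IsOpenImmersion X'.ι)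
  let e := (U.ι ≫ j).isoOpensRange
  let U' := (U.ι ≫ j).opensRange
  have he : e.hom ≫ U'.ι = U.ι ≫ j := (U.ι ≫ j).isoOpensRange_hom_ι
  have he' : e.hom ≫ U'.ι ≫ pullback.snd f g = U.ι ≫ pullback.snd (X'.ι ≫ f) g := by
    rw [← Category.assoc, he, Category.assoc, hj2]
  haveI : IsFinite (U'.ι ≫ pullback.snd f g) := by
    have : IsFinite (e.inv ≫ U.ι ≫ pullback.snd (X'.ι ≫ f) g) := inferInstance
    rwa [← he', Iso.inv_hom_id_assoc] at this
  have key := hw V g U' ‹_›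
  have heq : MoreMor.fibreIntegral (U.ι ≫ pullback.snd (X'.ι ≫ f) g)
      (fun u => w (X'.ι (pullback.fst (X'.ι ≫ f) g (U.ι u)))) =
      MoreMor.fibreIntegral (U'.ι ≫ pullback.snd f g) (fun u => w (pullback.fst f g (U'.ι u))) := by
    funext v
    rw [← fibreIntegral_iso e.hom (U'.ι ≫ pullback.snd f g) _ v, he']
    refine fibreIntegral_congr _ _ _ v fun z _ => congrArg w ?_
    rw [← Scheme.Hom.comp_apply, ← Scheme.Hom.comp_apply, ← Scheme.Hom.comp_apply,
      ← Scheme.Hom.comp_apply, reassoc_of% he, hj1]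
  rw [heq]
  exact key

variable {f : X ⟶ Y} {g : Y ⟶ Z} {T PX PY : Scheme.{u}} {gT : T ⟶ Z} {qX : PX ⟶ X} {pX : PX ⟶ T}
  {qY : PY ⟶ Y} {pY : PY ⟶ T}

/-- The composite product weight on a finite piece over a piece with one point over `t0`. -/
theorem exists_nhd_comp_piece [LocallyQuasiFinite f] [LocallyOfFiniteType f] [LocallyQuasiFinite g]
    [LocallyOfFiniteType g] (wf : X → ℤ) (wg : Y → ℤ) (hf : MoreMor.IsWeighting f wf)
    (hg : MoreMor.IsWeighting g wg) (HX : IsPullback qX pX (f ≫ g) gT) (HY : IsPullback qY pY g gT)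
    (m : PX ⟶ PY) (hm1 : m ≫ qY = qX ≫ f) (hm2 : m ≫ pY = pX)
    (B : PY.Opens) [IsFinite (B.ι ≫ pY)] (W : PX.Opens) [IsFinite (W.ι ≫ pX)] (hsub : W ≤ m ⁻¹ᵁ B)
    (t0 : T) (huniq : ∀ z z', z ∈ B → z' ∈ B → pY z = t0 → pY z' = t0 → z = z') :
    ∀ᶠ y in nhds t0, MoreMor.fibreIntegral (W.ι ≫ pX) (fun z => wf (qX (W.ι z)) * wg (f (qX (W.ι z)))) y =
      MoreMor.fibreIntegral (W.ι ≫ pX) (fun z => wf (qX (W.ι z)) * wg (f (qX (W.ι z)))) t0 := by
  subst hm2
  have Hm : IsPullback qX m f qY := IsPullback.of_bot HX hm1.symm HY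
  let MB := m ⁻¹ᵁ B
  have HB : IsPullback (MB.ι ≫ qX) (m ∣_ B) f (B.ι ≫ qY) :=
    (isPullback_morphismRestrict m B).flip.paste_horiz Hm
  let W' := MB.ι ⁻¹ᵁ W
  let i := MB.ι ∣_ W
  haveI : Surjective i := ⟨fun z => ⟨⟨⟨z.1, hsub z.2⟩, z.2⟩, W.ι.isOpenEmbedding.injective (by
    rw [← Scheme.Hom.comp_apply, morphismRestrict_ι]; rfl)⟩⟩
  haveI : IsIso i := (isIso_iff_isOpenImmersion_and_surjective i).2 ⟨inferInstance, inferInstance⟩
  let k := W'.ι ≫ (m ∣_ B)
  have hi : i ≫ W.ι = W'.ι ≫ MB.ι := morphismRestrict_ι ..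
  have hk : k ≫ B.ι ≫ pY = i ≫ W.ι ≫ m ≫ pY := by
    simp only [k, Category.assoc]
    rw [morphismRestrict_ι_assoc, reassoc_of% hi]
  haveI : IsFinite k := by
    haveI : IsFinite (k ≫ B.ι ≫ pY) := by rw [hk]; infer_instance
    exact IsFinite.of_comp k (B.ι ≫ pY)
  haveI : IsFinite (W'.ι ≫ (m ∣_ B)) := ‹IsFinite k›
  let φ := MoreMor.fibreIntegral k (fun z => wf ((MB.ι ≫ qX) (W'.ι z)))
  have hφ : IsLocallyConstant φ := isLocallyConstant_fibreIntegral wf hf HB W'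
  let F := MoreMor.fibreIntegral (W.ι ≫ m ≫ pY) (fun z => wf (qX (W.ι z)) * wg (f (qX (W.ι z))))
  let Gg := MoreMor.fibreIntegral (B.ι ≫ pY) (fun b => wg (qY (B.ι b)))
  have hGg : IsLocallyConstant Gg := isLocallyConstant_fibreIntegral wg hg HY B
  have hF : ∀ y, F y = MoreMor.fibreIntegral (B.ι ≫ pY) (fun b => wg (qY (B.ι b)) * φ b) y := by
    intro y
    show MoreMor.fibreIntegral (W.ι ≫ m ≫ pY) _ y = _
    rw [← fibreIntegral_comp k (B.ι ≫ pY) (fun z => wf ((MB.ι ≫ qX) (W'.ι z)))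
      (fun b => wg (qY (B.ι b))) y, ← fibreIntegral_iso i (W.ι ≫ m ≫ pY) _ y, hk]
    refine fibreIntegral_congr _ _ _ y fun z _ => ?_
    simp only [k, ← Scheme.Hom.comp_apply, reassoc_of% hi, Category.assoc, morphismRestrict_ι_assoc, hm1, MB]
  -- a neighbourhood where `φ` is constant on the fibre
  obtain ⟨C, O, hO, hOc, hOt⟩ : ∃ (C : ℤ) (O : Set B), IsOpen O ∧ (∀ b ∈ O, φ b = C) ∧
      ∀ b : B, pY b.1 = t0 → b ∈ O := by
    by_cases h : ∃ b : B, pY b.1 = t0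
    · obtain ⟨b, hb⟩ := h
      exact ⟨φ b, {b' | φ b' = φ b}, hφ.isOpen_fiber _, fun _ h => h, fun b' hb' =>
        congrArg φ (Subtype.ext (huniq _ _ b'.2 b.2 hb' hb))⟩
    · exact ⟨0, ∅, isOpen_empty, by simp, fun b hb => absurd ⟨b, hb⟩ h⟩
  have hbad : IsClosed ((B.ι ≫ pY) '' Oᶜ) := (B.ι ≫ pY).isClosedMap _ hO.isClosed_compl
  have key : ∀ y, y ∉ (B.ι ≫ pY) '' Oᶜ → F y = C * Gg y := by
    intro y hy
    rw [hF y, ← fibreIntegral_const_mul]
    refine fibreIntegral_congr _ _ _ y fun b hb => ?_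
    rw [hOc b (by by_contra hbO; exact hy ⟨b, hbO, hb⟩), mul_comm]
  have ht0 : t0 ∉ (B.ι ≫ pY) '' Oᶜ := fun ⟨b, hb, hbt⟩ => hb (hOt b hbt)
  filter_upwards [hbad.isOpen_compl.mem_nhds ht0, (hGg.isOpen_fiber (Gg t0)).mem_nhds rfl] with y hy hy'
  show F y = F t0
  rw [key y hy, key t0 ht0, show Gg y = Gg t0 from hy']

end Groth.Agent.Weight
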