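import Groth.Agent.Lib.Weight4.Mult
import Groth.Agent.Lib.Weight4.Comp
import Mathlib.AlgebraicGeometry.Morphisms.FlatRank
import Mathlib.RingTheory.RamificationInertia.Basic

/-!
# The fibre integral of the multiplicity of a finite flat morphism is its rank
-/

universe u

open AlgebraicGeometry CategoryTheory Limits IsLocalRing

noncomputable section

namespace Groth.Agent.Weight

/-- Residue degree of a local homomorphism. -/
def resDeg {A B : Type u} [CommRing A] [CommRing B] [IsLocalRing A] [IsLocalRing B] (φ : A →+* B)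
    [IsLocalHom φ] : ℕ :=
  letI := (ResidueField.map φ).toAlgebra
  Module.finrank (ResidueField A) (ResidueField B)

theorem lenFib_resDeg_transfer {A A' B B' : Type u} [CommRing A] [CommRing A'] [CommRing B]
    [CommRing B'] [IsLocalRing A] [IsLocalRing A'] [IsLocalRing B] [IsLocalRing B']
    (φ : A →+* B) (φ' : A' →+* B') [IsLocalHom φ] [IsLocalHom φ'] (eA : A ≃+* A') (eB : B ≃+* B')
    (h : ∀ a, eB (φ a) = φ' (eA a)) : lenFib φ = lenFib φ' ∧ resDeg φ = resDeg φ' := by
  have hA : (maximalIdeal A').map eA.symm.toRingHom = maximalIdeal A :=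
    eq_maximalIdeal (Ideal.map_isMaximal_of_equiv eA.symm)
  have hB : (maximalIdeal B).map eB.toRingHom = maximalIdeal B' :=
    eq_maximalIdeal (Ideal.map_isMaximal_of_equiv eB)
  refine ⟨?_, ?_⟩
  · have h1 : φ' = eB.toRingHom.comp (φ.comp eA.symm.toRingHom) := RingHom.ext fun a => by
      show φ' a = eB (φ (eA.symm a))
      rw [h, RingEquiv.apply_symm_apply]
    have : IsLocalHom eB.toRingHom := ⟨fun a ha => by simpa using ha.map eB.symm.toRingHom⟩
    rw [h1, lenFib_comp _ _ (RingHom.Flat.of_bijective (f := eB.toRingHom) eB.bijective),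
      lenFib_eq_one_of_map_eq _ hB, mul_one, lenFib_comp_of_map_eq _ _ hA]
  · letI := (ResidueField.map φ).toAlgebra
    letI := (ResidueField.map φ').toAlgebra
    refine Algebra.finrank_eq_of_equiv_equiv (ResidueField.mapEquiv eA) (ResidueField.mapEquiv eB) ?_
    ext r
    obtain ⟨r, rfl⟩ := residue_surjective r
    exact congrArg (residue B') (h r).symm

theorem fibreIntegral_term {X Y : Scheme.{u}} (π : X ⟶ Y) (x : X) (h : π.QuasiFiniteAt x) :
    wt π x * (letI := (π.residueFieldMap x).hom.toAlgebra
      (Field.finSepDegree (Y.residueField (π x)) (X.residueField x) : ℤ)) =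
      ((lenFib (π.stalkMap x).hom).toNat * resDeg (π.stalkMap x).hom : ℕ) := by
  letI := (π.residueFieldMap x).hom.toAlgebra
  have : resDeg (π.stalkMap x).hom =
      Module.finrank (Y.residueField (π x)) (X.residueField x) := rfl
  rw [this, wt_eq, ← Field.finSepDegree_mul_finInsepDegree]
  simp only [insDeg, Nat.cast_mul]
  ring

theorem fibreIntegral_wt_spec (R S : Type u) [CommRing R] [CommRing S] [Algebra R S]
    [Module.Finite R S] [Module.Flat R S] (p : PrimeSpectrum R) :
    MoreMor.fibreIntegral (Spec.map (CommRingCat.ofHom (algebraMap R S)))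
      (wt (Spec.map (CommRingCat.ofHom (algebraMap R S)))) p = Module.rankAtStalk S p := by
  classical
  let π := Spec.map (CommRingCat.ofHom (algebraMap R S))
  haveI : IsFinite π := by
    rwa [IsFinite.SpecMap_iff, CommRingCat.hom_ofHom, RingHom.finite_algebraMap]
  haveI : Finite (p.asIdeal.primesOver S) := Algebra.QuasiFinite.finite_primesOver p.asIdeal
  letI := Fintype.ofFinite (p.asIdeal.primesOver S)
  rw [Module.rankAtStalk_eq, ← Ideal.sum_ramification_inertia_eq_finrank_fiber, Nat.cast_sum]
  let E : {u : ↥(Spec (CommRingCat.of S)) // π u = p} ≃ p.asIdeal.primesOver S :=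
    { toFun := fun q => ⟨(q.1 : PrimeSpectrum S).asIdeal, (q.1 : PrimeSpectrum S).2,
        ⟨(congrArg PrimeSpectrum.asIdeal q.2).symm⟩⟩
      invFun := fun q => ⟨(⟨q.1, q.2.1⟩ : PrimeSpectrum S), PrimeSpectrum.ext q.2.2.over.symm⟩
      left_inv := fun _ => rfl
      right_inv := fun _ => rfl }
  haveI : Finite {u : ↥(Spec (CommRingCat.of S)) // π u = p} := Finite.of_equiv _ E.symm
  letI : Fintype {u : ↥(Spec (CommRingCat.of S)) // π u = p} := Fintype.ofFinite _
  unfold MoreMor.fibreIntegral
  rw [finsum_eq_sum_of_fintype, ← E.sum_comp]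
  refine Finset.sum_congr rfl fun q _ => ?_
  rw [fibreIntegral_term π q.1 (π.quasiFiniteAt _)]
  congr 1
  let q' : Ideal S := (q.1 : PrimeSpectrum S).asIdeal
  haveI hq' : q'.IsPrime := (q.1 : PrimeSpectrum S).2
  show _ = q'.ramificationIdx R * q'.inertiaDeg R
  let p' : Ideal R := q'.under R
  haveI hp' : p'.IsPrime := inferInstanceAs (q'.under R).IsPrime
  letI := Localization.AtPrime.algebraOfLiesOver p' q'
  have i := Scheme.arrowStalkMapSpecIso (CommRingCat.ofHom (algebraMap R S)) q.1
  obtain ⟨h1, h2⟩ := lenFib_resDeg_transfer (π.stalkMap q.1).hom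
    (Localization.localRingHom p' q' (algebraMap R S) rfl)
    ((Arrow.leftFunc.mapIso i).commRingCatIsoToRingEquiv)
    ((Arrow.rightFunc.mapIso i).commRingCatIsoToRingEquiv)
    (fun a => congr($(i.hom.w).hom a).symm)
  rw [h1, h2]
  congr 1
  · rw [Ideal.ramificationIdx_def]
    unfold lenFib
    rw [← Localization.AtPrime.map_eq_maximalIdeal, Ideal.map_map]
    rw [show (Localization.localRingHom p' q' (algebraMap R S) rfl).comp (algebraMap R _) =
      algebraMap R (Localization.AtPrime q') from RingHom.ext fun r =>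
        (Localization.localRingHom_to_map p' q' (algebraMap R S) rfl r).trans
          (IsScalarTower.algebraMap_apply R S _ r).symm]
  · rw [Ideal.inertiaDeg_eq p' q']
    unfold resDeg
    letI := (ResidueField.map (Localization.localRingHom p' q' (algebraMap R S) rfl)).toAlgebra
    refine congrArg (fun m : Module p'.ResidueField q'.ResidueField =>
      @Module.finrank p'.ResidueField q'.ResidueField _ _ m) (Module.ext' _ _ fun r x => ?_)
    obtain ⟨r, rfl⟩ := residue_surjective (R := Localization.AtPrime p') r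
    obtain ⟨x, rfl⟩ := residue_surjective (R := Localization.AtPrime q') x
    rfl

/-- The fibre integral of the multiplicity is the rank. -/
theorem fibreIntegral_wt_eq_finrank {U V : Scheme.{u}} (π : U ⟶ V) [IsFinite π] [Flat π] (v : V) :
    MoreMor.fibreIntegral π (wt π) v = π.finrank v := by
  obtain ⟨V₀, hV₀, hv, -⟩ := exists_isAffineOpen_mem_and_subset (U := ⊤) (x := v) (Set.mem_univ v)
  haveI : IsAffine V₀ := hV₀
  let j := V₀.toScheme.isoSpec.inv ≫ V₀.ι
  have hj : Etale j := inferInstance
  let π' := pullback.snd π j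
  haveI : IsAffine (pullback π j) := isAffine_of_isAffineHom π'
  let φ := Spec.preimage ((pullback π j).isoSpec.inv ≫ π')
  have hφ : Spec.map φ = (pullback π j).isoSpec.inv ≫ π' := Spec.map_preimage _
  letI := φ.hom.toAlgebra
  have hf : IsFinite (Spec.map φ) := by rw [hφ]; infer_instance
  have hfl : Flat (Spec.map φ) := by rw [hφ]; infer_instance
  rw [IsFinite.SpecMap_iff] at hf
  have hfl' : φ.hom.Flat := (HasRingHomProperty.Spec_iff (P := @Flat)).1 hfl
  haveI : Module.Finite _ _ := hf
  haveI : Module.Flat _ _ := hfl'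
  obtain ⟨p, hp⟩ : v ∈ Set.range j := by
    refine ⟨V₀.toScheme.isoSpec.hom (⟨v, hv⟩ : V₀.toScheme), ?_⟩
    exact congrArg Subtype.val (congr($(Iso.hom_inv_id V₀.toScheme.isoSpec) (⟨v, hv⟩ : V₀.toScheme)))
  have hπ' : MoreMor.fibreIntegral π' (wt π') p = π'.finrank p := by
    have h1 := fibreIntegral_wt_spec Γ(V₀.toScheme, ⊤) Γ(pullback π j, ⊤) p
    replace h1 := h1.trans (congrArg Nat.cast
      (Scheme.Hom.finrank_SpecMap_algebraMap Γ(V₀.toScheme, ⊤) Γ(pullback π j, ⊤) p).symm)
    change MoreMor.fibreIntegral (Spec.map φ) (wt (Spec.map φ)) p = ((Spec.map φ).finrank p : ℤ) at h1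
    simp only [hφ] at h1
    rw [Scheme.Hom.finrank_comp_left_of_isIso] at h1
    rw [← h1, ← fibreIntegral_iso (pullback π j).isoSpec.inv π' (wt π') p]
    exact fibreIntegral_congr _ _ _ _ fun z _ =>
      (wt_comp_left _ π' z (π'.quasiFiniteAt _)).symm
  have h2 : MoreMor.fibreIntegral π' (wt π') p = MoreMor.fibreIntegral π (wt π) (j p) := by
    rw [← fibreIntegral_baseChange (fun v => π.finite_preimage_singleton v)
      (IsPullback.of_hasPullback π j) (wt π) p]
    exact fibreIntegral_congr _ _ _ _ fun z _ => wt_of_commSq (pullback.condition (f := π) (g := j)).symm z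
  rw [← hp, ← h2, hπ', Scheme.Hom.finrank_pullback_snd]

end Groth.Agent.Weight
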