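import Groth.Agent.Lib.Weight4.Comp
import Groth.Agent.Lib.FpqcDesc.Basic
import Mathlib.AlgebraicGeometry.Limits
import Mathlib.Topology.Semicontinuity.Basic

/-!
# Fibre integrals near a point of the base
-/

universe u

open AlgebraicGeometry CategoryTheory Limits IsLocalRing

namespace Groth.Agent.Weight

variable {X Y : Scheme.{u}}

/-- Splitting of a whole fibre. -/
theorem exists_fibre_pieces (f : X ⟶ Y) [LocallyQuasiFinite f] [LocallyOfFiniteType f] (y₀ : Y)
    (hfin : (f ⁻¹' {y₀}).Finite) :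
    ∃ (U : Scheme.{u}) (gU : U ⟶ Y) (u : U) (n : ℕ) (W : Fin n → (pullback f gU).Opens),
      Etale gU ∧ gU u = y₀ ∧ (∀ l, IsFinite ((W l).ι ≫ pullback.snd f gU)) ∧
      (∀ z, pullback.snd f gU z = u → ∃ l, z ∈ W l) ∧
      (∀ l l' z, z ∈ W l → z ∈ W l' → pullback.snd f gU z = u → l = l') := by
  classical
  obtain ⟨t, ht⟩ := exists_geomPt y₀
  let Ω := AlgebraicClosure (Y.residueField y₀)
  let L := {b : Spec (CommRingCat.of Ω) ⟶ X // b ≫ f = t}
  haveI : Finite L := finite_lifts f (fun z => f.quasiFiniteAt z) t (by rw [ht]; exact hfin)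
  let e := Finite.equivFin L
  obtain ⟨U, gU, ū, W, hgU, hū, hfinW, huniq⟩ := exists_split f t (fun i => (e.symm i).1)
    (fun i => (e.symm i).2) (fun i => f.quasiFiniteAt _)
  haveI := hgU
  haveI : ∀ l, IsFinite ((W l).ι ≫ pullback.snd f gU) := hfinW
  let HV := IsPullback.of_hasPullback f gU
  refine ⟨U, gU, pt ū, _, W, hgU, by rw [← pt_comp, hū, ht], hfinW, fun z hz => ?_,
    fun l l' z hz hz' hzu => ?_⟩
  · obtain ⟨c, hc, hcz⟩ := exists_lift_of_eq (pullback.snd f gU) z ((pullback.snd f gU).quasiFiniteAt z) ū hz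
    have hb : (c ≫ pullback.fst f gU) ≫ f = t := by
      rw [Category.assoc, pullback.condition, ← Category.assoc, hc, hū]
    obtain ⟨hb', hmem⟩ := (huniq (e ⟨_, hb⟩) (c ≫ pullback.fst f gU)).2 (by rw [e.symm_apply_apply])
    refine ⟨e ⟨_, hb⟩, ?_⟩
    rw [← hcz]
    rwa [show HV.lift (c ≫ pullback.fst f gU) ū hb' = c from
      HV.hom_ext (HV.lift_fst ..) ((HV.lift_snd ..).trans hc.symm)] at hmem
  · obtain ⟨b, hb, hbz⟩ := exists_inLift_of_mem HV (W l) ū z hz hzu
    have hb2 : InLift HV (W l') ū b := ⟨hb.1, by rw [hbz]; exact hz'⟩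
    exact e.symm.injective (Subtype.ext (((huniq l b).1 hb).symm.trans ((huniq l' b).1 hb2)))

theorem finite_preimage_restrict {P U : Scheme.{u}} (π : P ⟶ U) (W : P.Opens) (v : U)
    (hfin : (π ⁻¹' {v}).Finite) : ((W.ι ≫ π) ⁻¹' {v}).Finite := by
  show (W.ι ⁻¹' (π ⁻¹' {v})).Finite
  exact hfin.preimage W.ι.isOpenEmbedding.injective.injOn

/-- The integral over an open is the integral of the restricted function. -/
theorem fibreIntegral_indicator {P U : Scheme.{u}} (π : P ⟶ U) [LocallyQuasiFinite π]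
    [LocallyOfFiniteType π] (W : P.Opens) (φ : P → ℤ) (v : U) (hfin : (π ⁻¹' {v}).Finite) :
    MoreMor.fibreIntegral (W.ι ≫ π) (fun z => φ (W.ι z)) v =
      MoreMor.fibreIntegral π ((W : Set P).indicator φ) v := by
  classical
  obtain ⟨t, ht⟩ := exists_geomPt v
  let Ω := AlgebraicClosure (U.residueField v)
  rw [fibreIntegral_eq (W.ι ≫ π) (fun z => (W.ι ≫ π).quasiFiniteAt z) _ t v ht
      (finite_preimage_restrict π W v hfin),
    fibreIntegral_eq π (fun z => π.quasiFiniteAt z) _ t v ht hfin]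
  haveI := finite_lifts π (fun z => π.quasiFiniteAt z) t (by rw [ht]; exact hfin)
  let e : {a : Spec (CommRingCat.of Ω) ⟶ (W : Scheme.{u}) // a ≫ W.ι ≫ π = t} ≃
      {a : {a : Spec (CommRingCat.of Ω) ⟶ P // a ≫ π = t} // pt a.1 ∈ W} :=
    { toFun := fun a => ⟨⟨a.1 ≫ W.ι, by rw [Category.assoc]; exact a.2⟩, (pt a.1).2⟩
      invFun := fun a => ⟨liftOpen W a.1.1 a.2, by rw [← Category.assoc, liftOpen_ι]; exact a.1.2⟩
      left_inv := fun a => Subtype.ext (by rw [← cancel_mono W.ι, liftOpen_ι])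
      right_inv := fun a => Subtype.ext (Subtype.ext (liftOpen_ι W a.1.1 a.2)) }
  haveI := Finite.of_equiv _ e.symm
  letI := Fintype.ofFinite {a : Spec (CommRingCat.of Ω) ⟶ P // a ≫ π = t}
  letI := Fintype.ofFinite {a : Spec (CommRingCat.of Ω) ⟶ (W : Scheme.{u}) // a ≫ W.ι ≫ π = t}
  rw [finsum_eq_sum_of_fintype, finsum_eq_sum_of_fintype]
  simp only [Set.indicator_apply, SetLike.mem_coe]
  rw [← Finset.sum_filter, Finset.sum_subtype (p := fun a : {a : Spec (CommRingCat.of Ω) ⟶ P // a ≫ π = t} => pt a.1 ∈ W) _ (fun a => by simp only [Finset.mem_filter, Finset.mem_univ, true_and]; exact Iff.rfl)]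
  exact Fintype.sum_equiv e _ _ fun a => rfl

/-- Linearity of fibre integrals. -/
theorem fibreIntegral_sum {P U : Scheme.{u}} (π : P ⟶ U) [LocallyQuasiFinite π]
    [LocallyOfFiniteType π] {L : Type*} [Fintype L] (φ : L → P → ℤ) (v : U)
    (hfin : (π ⁻¹' {v}).Finite) :
    ∑ l, MoreMor.fibreIntegral π (φ l) v = MoreMor.fibreIntegral π (fun z => ∑ l, φ l z) v := by
  classical
  obtain ⟨t, ht⟩ := exists_geomPt v
  haveI := finite_lifts π (fun z => π.quasiFiniteAt z) t (by rw [ht]; exact hfin)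
  simp only [fibreIntegral_eq π (fun z => π.quasiFiniteAt z) _ t v ht hfin]
  letI := Fintype.ofFinite {a : Spec (CommRingCat.of (AlgebraicClosure (U.residueField v))) ⟶ P // a ≫ π = t}
  simp only [finsum_eq_sum_of_fintype]
  exact Finset.sum_comm

/-- Monotonicity of fibre integrals, with the equality case. -/
theorem fibreIntegral_mono {P U : Scheme.{u}} (π : P ⟶ U) [LocallyQuasiFinite π]
    [LocallyOfFiniteType π] (φ ψ : P → ℤ) (v : U) (hfin : (π ⁻¹' {v}).Finite)
    (h : ∀ z, π z = v → φ z ≤ ψ z) :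
    MoreMor.fibreIntegral π φ v ≤ MoreMor.fibreIntegral π ψ v ∧
      (MoreMor.fibreIntegral π φ v = MoreMor.fibreIntegral π ψ v → ∀ z, π z = v → φ z = ψ z) := by
  classical
  obtain ⟨t, ht⟩ := exists_geomPt v
  haveI := finite_lifts π (fun z => π.quasiFiniteAt z) t (by rw [ht]; exact hfin)
  simp only [fibreIntegral_eq π (fun z => π.quasiFiniteAt z) _ t v ht hfin]
  letI := Fintype.ofFinite {a : Spec (CommRingCat.of (AlgebraicClosure (U.residueField v))) ⟶ P // a ≫ π = t}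
  simp only [finsum_eq_sum_of_fintype]
  have hle : ∀ a ∈ (Finset.univ : Finset {a : Spec (CommRingCat.of (AlgebraicClosure (U.residueField v))) ⟶ P // a ≫ π = t}),
      φ (pt a.1) ≤ ψ (pt a.1) := fun a _ => h _ (by rw [← pt_comp, a.2, ht])
  refine ⟨Finset.sum_le_sum hle, fun heq z hz => ?_⟩
  obtain ⟨a, ha, haz⟩ := exists_lift_of_eq π z (π.quasiFiniteAt z) t (hz.trans ht.symm)
  have := (Finset.sum_eq_sum_iff_of_le hle).1 heq ⟨a, ha⟩ (Finset.mem_univ _)
  rwa [haz] at this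

/-- Near a point the pieces contribute at most the whole integral, with equality only if they cover. -/
theorem sum_pieces_le {f : X ⟶ Y} [LocallyQuasiFinite f] [LocallyOfFiniteType f]
    (hfin : ∀ y : Y, (f ⁻¹' {y}).Finite) {U : Scheme.{u}} (gU : U ⟶ Y) {L : Type*} [Fintype L]
    (W : L → (pullback f gU).Opens) (w : X → ℤ) (hw : ∀ x, 0 < w x) (v : U)
    (hfinP : (pullback.snd f gU ⁻¹' {v}).Finite)
    (hdisj : ∀ l l' z, z ∈ W l → z ∈ W l' → pullback.snd f gU z = v → l = l') :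
    ∑ l, MoreMor.fibreIntegral ((W l).ι ≫ pullback.snd f gU)
        (fun z => w (pullback.fst f gU ((W l).ι z))) v ≤ MoreMor.fibreIntegral f w (gU v) ∧
    ((∀ z, pullback.snd f gU z = v → ∃ l, z ∈ W l) →
      ∑ l, MoreMor.fibreIntegral ((W l).ι ≫ pullback.snd f gU)
        (fun z => w (pullback.fst f gU ((W l).ι z))) v = MoreMor.fibreIntegral f w (gU v)) ∧
    (∑ l, MoreMor.fibreIntegral ((W l).ι ≫ pullback.snd f gU)
        (fun z => w (pullback.fst f gU ((W l).ι z))) v = MoreMor.fibreIntegral f w (gU v) →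
      ∀ z, pullback.snd f gU z = v → ∃ l, z ∈ W l) := by
  classical
  let π := pullback.snd f gU
  let φ := w ∘ ⇑(pullback.fst f gU)
  rw [← fibreIntegral_baseChange hfin (IsPullback.of_hasPullback f gU) w v]
  have hsum : ∑ l, MoreMor.fibreIntegral ((W l).ι ≫ π) (fun z => φ ((W l).ι z)) v =
      MoreMor.fibreIntegral π (fun z => ∑ l, (W l : Set (pullback f gU : Scheme.{u})).indicator φ z) v := by
    rw [← fibreIntegral_sum π _ v hfinP]
    exact Finset.sum_congr rfl fun l _ => fibreIntegral_indicator π (W l) φ v hfinP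
  have hval : ∀ z, π z = v → ∀ l, z ∈ W l →
      ∑ l', (W l' : Set (pullback f gU : Scheme.{u})).indicator φ z = φ z := by
    intro z hz l hl
    rw [Finset.sum_eq_single l (fun l' _ hne => Set.indicator_of_notMem
      (fun hl' => hne (hdisj l' l z hl' hl hz)) φ) (fun h => absurd (Finset.mem_univ l) h),
      Set.indicator_of_mem (show z ∈ (W l : Set (pullback f gU : Scheme.{u})) from hl)]
  have hzero : ∀ z, (¬ ∃ l, z ∈ W l) →
      ∑ l', (W l' : Set (pullback f gU : Scheme.{u})).indicator φ z = 0 := fun z hz =>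
    Finset.sum_eq_zero fun l _ => Set.indicator_of_notMem (fun hl => hz ⟨l, hl⟩) φ
  have hle : ∀ z, π z = v → ∑ l', (W l' : Set (pullback f gU : Scheme.{u})).indicator φ z ≤ φ z := by
    intro z hz
    by_cases h : ∃ l, z ∈ W l
    · obtain ⟨l, hl⟩ := h; exact (hval z hz l hl).le
    · rw [hzero z h]; exact (hw _).le
  have hm := fibreIntegral_mono π _ φ v hfinP hle
  refine ⟨hsum.le.trans hm.1, fun hcov => hsum.trans ?_, fun heq z hz => ?_⟩
  · exact fibreIntegral_congr π _ _ v fun z hz => by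
      obtain ⟨l, hl⟩ := hcov z hz; exact hval z hz l hl
  · by_contra h
    have := hm.2 (hsum.symm.trans heq) z hz
    rw [hzero z h] at this
    exact (hw (pullback.fst f gU z)).ne this

/-- Disjoint finite opens have finite union. -/
theorem isFinite_sup {P U : Scheme.{u}} (π : P ⟶ U) (A B : P.Opens) (h : Disjoint A B)
    [IsFinite (A.ι ≫ π)] [IsFinite (B.ι ≫ π)] : IsFinite ((A ⊔ B).ι ≫ π) := by
  let i := P.homOfLE (le_sup_left : A ≤ A ⊔ B)
  let j := P.homOfLE (le_sup_right : B ≤ A ⊔ B)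
  have hij : IsCompl i.opensRange j.opensRange := by
    rw [isCompl_iff, disjoint_iff, codisjoint_iff]
    refine ⟨?_, ?_⟩
    · ext z
      simp only [TopologicalSpace.Opens.coe_inf, Scheme.Hom.coe_opensRange, Set.mem_inter_iff,
        TopologicalSpace.Opens.coe_bot, Set.mem_empty_iff_false, iff_false]
      rintro ⟨⟨a, rfl⟩, b, hb⟩
      have h1 : (A ⊔ B).ι (i a) = A.ι a := by rw [← Scheme.Hom.comp_apply, Scheme.homOfLE_ι]
      have h2 : (A ⊔ B).ι (j b) = B.ι b := by rw [← Scheme.Hom.comp_apply, Scheme.homOfLE_ι]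
      rw [hb, h1] at h2
      exact h.le_bot (show A.ι a ∈ A ⊓ B from ⟨a.2, by rw [h2]; exact b.2⟩)
    · ext z
      simp only [TopologicalSpace.Opens.coe_sup, Scheme.Hom.coe_opensRange, Set.mem_union,
        TopologicalSpace.Opens.coe_top, Set.mem_univ, iff_true]
      rcases z.2 with hz | hz
      · exact Or.inl ⟨⟨z.1, hz⟩, (A ⊔ B).ι.isOpenEmbedding.injective (by
          rw [← Scheme.Hom.comp_apply, Scheme.homOfLE_ι]; rfl)⟩
      · exact Or.inr ⟨⟨z.1, hz⟩, (A ⊔ B).ι.isOpenEmbedding.injective (by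
          rw [← Scheme.Hom.comp_apply, Scheme.homOfLE_ι]; rfl)⟩
  obtain ⟨hc⟩ := nonempty_isColimit_binaryCofanMk_of_isCompl i j hij
  let e : (A.toScheme ⨿ B.toScheme) ≅ (A ⊔ B).toScheme := (coprodIsCoprod (A : Scheme.{u}) B).coconePointUniqueUpToIso hc
  have he : e.hom ≫ (A ⊔ B).ι ≫ π = coprod.desc (A.ι ≫ π) (B.ι ≫ π) := by
    apply coprod.hom_ext
    · rw [coprod.inl_desc, ← Category.assoc]
      have h1 : coprod.inl ≫ e.hom = i := (coprodIsCoprod (A : Scheme.{u}) B).comp_coconePointUniqueUpToIso_hom hc ⟨WalkingPair.left⟩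
      rw [h1, ← Category.assoc, Scheme.homOfLE_ι]
    · rw [coprod.inr_desc, ← Category.assoc]
      have h1 : coprod.inr ≫ e.hom = j := (coprodIsCoprod (A : Scheme.{u}) B).comp_coconePointUniqueUpToIso_hom hc ⟨WalkingPair.right⟩
      rw [h1, ← Category.assoc, Scheme.homOfLE_ι]
  have : IsFinite (e.inv ≫ coprod.desc (A.ι ≫ π) (B.ι ≫ π)) := inferInstance
  rwa [← he, Iso.inv_hom_id_assoc] at this

theorem isFinite_finset_sup {P U : Scheme.{u}} (π : P ⟶ U) {L : Type*} (W : L → P.Opens) (s : Finset L)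
    (hfin : ∀ l ∈ s, IsFinite ((W l).ι ≫ π)) (hd : ∀ l ∈ s, ∀ l' ∈ s, l ≠ l' → Disjoint (W l) (W l')) :
    IsFinite ((s.sup W).ι ≫ π) := by
  induction s using Finset.cons_induction with
  | empty =>
    rw [Finset.sup_empty]
    haveI : IsEmpty ((⊥ : P.Opens) : Scheme.{u}) := ⟨fun z => z.2⟩
    infer_instance
  | cons l s hl ih =>
    rw [Finset.sup_cons]
    haveI := hfin l (Finset.mem_cons_self ..)
    haveI := ih (fun l' h => hfin l' (Finset.mem_cons_of_mem h))
      (fun a ha b hb => hd a (Finset.mem_cons_of_mem ha) b (Finset.mem_cons_of_mem hb))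
    exact isFinite_sup π _ _ (Finset.disjoint_sup_right.2 fun l' hl' =>
      hd l (Finset.mem_cons_self ..) l' (Finset.mem_cons_of_mem hl') (fun h => hl (h ▸ hl')))

/-- A neighbourhood where the pieces are disjoint and have constant integrals. -/
theorem exists_nhd_pieces {f : X ⟶ Y} [LocallyQuasiFinite f] [LocallyOfFiniteType f] [IsSeparated f]
    (hfin : ∀ y : Y, (f ⁻¹' {y}).Finite) (w : X → ℤ) (hw : MoreMor.IsWeighting f w)
    (hpos : ∀ x, 0 < w x) (y₀ : Y) :
    ∃ (U : Scheme.{u}) (gU : U ⟶ Y) (u : U) (n : ℕ) (W : Fin n → (pullback f gU).Opens) (N : U.Opens),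
      Etale gU ∧ gU u = y₀ ∧ u ∈ N ∧ (∀ l, IsFinite ((W l).ι ≫ pullback.snd f gU)) ∧
      (∀ l l' z, z ∈ W l → z ∈ W l' → pullback.snd f gU z ∈ N → l = l') ∧
      ∀ v ∈ N, MoreMor.fibreIntegral f w y₀ ≤ MoreMor.fibreIntegral f w (gU v) ∧
        (MoreMor.fibreIntegral f w (gU v) = MoreMor.fibreIntegral f w y₀ →
          ∀ z, pullback.snd f gU z = v → ∃ l, z ∈ W l) := by
  classical
  obtain ⟨U, gU, u, n, W, hgU, hu, hfinW, hcov, hdisj⟩ := exists_fibre_pieces f y₀ (hfin y₀)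
  haveI := hgU
  haveI : ∀ l, IsFinite ((W l).ι ≫ pullback.snd f gU) := hfinW
  let π := pullback.snd f gU
  have hfinP : ∀ v, (π ⁻¹' {v}).Finite := by
    intro v
    obtain ⟨t, ht⟩ := exists_geomPt v
    haveI := finite_lifts f (fun z => f.quasiFiniteAt z) (t ≫ gU) (by rw [pt_comp, ht]; exact hfin _)
    refine (Set.finite_range fun a : {a : Spec (CommRingCat.of (AlgebraicClosure (U.residueField v))) ⟶ X //
        a ≫ f = t ≫ gU} => pt (pullback.lift a.1 t a.2)).subset fun z hz => ?_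
    obtain ⟨c, hc, hcz⟩ := exists_lift_of_eq π z (π.quasiFiniteAt z) t (hz.trans ht.symm)
    refine ⟨⟨c ≫ pullback.fst f gU, by rw [Category.assoc, pullback.condition, ← Category.assoc, hc]⟩, ?_⟩
    show pt (pullback.lift (c ≫ pullback.fst f gU) t _) = z
    rw [← hcz]
    congr 2
    exact pullback.hom_ext (pullback.lift_fst ..) ((pullback.lift_snd ..).trans hc.symm)
  have hclosed : ∀ l, IsClosed (W l : Set (pullback f gU : Scheme.{u})) := fun l => by
    haveI : IsFinite (W l).ι := IsFinite.of_comp (W l).ι π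
    rw [← Scheme.Opens.range_ι]
    exact (W l).ι.isClosedMap.isClosed_range
  let bad : {p : Fin n × Fin n // p.1 ≠ p.2} → Set U := fun p =>
    π '' ((W p.1.1 : Set (pullback f gU : Scheme.{u})) \ (⟨_, (hclosed p.1.2).isOpen_compl⟩ : (pullback f gU).Opens))
  let G : Fin n → U → ℤ := fun l => MoreMor.fibreIntegral ((W l).ι ≫ π)
        (fun z => w (pullback.fst f gU ((W l).ι z)))
  let N : U.Opens := ⟨(⋃ p, bad p)ᶜ ∩ ⋂ l, {v | G l v = G l u},
    (isClosed_iUnion_of_finite fun p => isClosed_image_diff π (W _) _).isOpen_compl.inter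
      (isOpen_iInter_of_finite fun l => (hw U gU (W l) (hfinW l)).isOpen_fiber _)⟩
  have hdisjN : ∀ l l' z, z ∈ W l → z ∈ W l' → π z ∈ N → l = l' := by
    intro l l' z hz hz' hzN
    by_contra hne
    exact hzN.1 (Set.mem_iUnion.2 ⟨⟨(l, l'), hne⟩, z, ⟨hz, fun h => h hz'⟩, rfl⟩)
  have huN : u ∈ N := by
    refine ⟨?_, Set.mem_iInter.2 fun l => rfl⟩
    rintro hb
    obtain ⟨⟨⟨l, l'⟩, hne⟩, z, ⟨hz, hz'⟩, hzu⟩ := Set.mem_iUnion.1 hb
    exact hne (hdisj l l' z hz (not_not.1 hz') hzu)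
  refine ⟨U, gU, u, n, W, N, hgU, hu, huN, hfinW, hdisjN, fun v hv => ?_⟩
  have hGv : ∑ l, G l v = MoreMor.fibreIntegral f w y₀ := by
    rw [← hu, ← (sum_pieces_le hfin gU W w hpos u (hfinP u) hdisj).2.1 hcov]
    exact Finset.sum_congr rfl fun l _ => Set.mem_iInter.1 hv.2 l
  have hd : ∀ l l' z, z ∈ W l → z ∈ W l' → π z = v → l = l' := fun l l' z h1 h2 h3 =>
    hdisjN l l' z h1 h2 (h3 ▸ hv)
  have hsp := sum_pieces_le hfin gU W w hpos v (hfinP v) hd
  exact ⟨hGv ▸ hsp.1, fun heq => hsp.2.2 (hGv.trans heq.symm)⟩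

theorem lowerSemicontinuous_fibreIntegral {f : X ⟶ Y} [LocallyQuasiFinite f] [LocallyOfFiniteType f]
    [IsSeparated f] (hfin : ∀ y : Y, (f ⁻¹' {y}).Finite) (w : X → ℤ) (hw : MoreMor.IsWeighting f w)
    (hpos : ∀ x, 0 < w x) : LowerSemicontinuous (MoreMor.fibreIntegral f w) := by
  intro y c hc
  obtain ⟨U, gU, u, n, W, N, hgU, hu, huN, -, -, hN⟩ := exists_nhd_pieces hfin w hw hpos y
  haveI := hgU
  refine Filter.eventually_of_mem ((isOpenMap_of_etale gU _ N.2).mem_nhds ⟨u, huN, hu⟩) ?_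
  rintro _ ⟨v, hv, rfl⟩
  exact hc.trans_le (hN v hv).1

theorem isFinite_over_max {f : X ⟶ Y} [LocallyQuasiFinite f] [LocallyOfFiniteType f] [IsSeparated f]
    (hfin : ∀ y : Y, (f ⁻¹' {y}).Finite) (w : X → ℤ) (hw : MoreMor.IsWeighting f w) (hpos : ∀ x, 0 < w x)
    (d : ℤ) (hmax : ∀ y : Y, MoreMor.fibreIntegral f w y ≤ d) :
    ∃ hYd : IsOpen {y : Y | MoreMor.fibreIntegral f w y = d},
      IsFinite (f ∣_ ⟨{y : Y | MoreMor.fibreIntegral f w y = d}, hYd⟩) := by
  classical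
  let S := {y : Y | MoreMor.fibreIntegral f w y = d}
  have hloc : ∀ y ∈ S, ∃ V : Y.Opens, y ∈ V ∧ (V : Set Y) ⊆ S ∧ IsFinite (f ∣_ V) := by
    intro y hy
    obtain ⟨U, gU, u, n, W, N, hgU, hu, huN, hfinW, hdisj, hN⟩ := exists_nhd_pieces hfin w hw hpos y
    haveI := hgU
    obtain ⟨Y₁, hY₁, hyY₁, -⟩ := exists_isAffineOpen_mem_and_subset (U := ⊤) (x := y) (Set.mem_univ y)
    obtain ⟨N', hN', huN', hN'sub⟩ := exists_isAffineOpen_mem_and_subset (U := N ⊓ gU ⁻¹ᵁ Y₁) (x := u)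
      ⟨huN, by show gU u ∈ Y₁; rw [hu]; exact hyY₁⟩
    let V : Y.Opens := ⟨gU '' N', isOpenMap_of_etale gU _ N'.2⟩
    have hS : ∀ v ∈ N', MoreMor.fibreIntegral f w (gU v) = MoreMor.fibreIntegral f w y := fun v hv =>
      le_antisymm (by rw [show MoreMor.fibreIntegral f w y = d from hy]; exact hmax _) (hN v (hN'sub hv).1).1
    refine ⟨V, ⟨u, huN', hu⟩, ?_, ?_⟩
    · rintro _ ⟨v, hv, rfl⟩
      exact (hS v hv).trans hy
    -- finite after base change to `N'`
    let π := pullback.snd f gU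
    let B := π ⁻¹ᵁ N'
    let ρ := pullback.snd f gU ∣_ N'
    have hρ : IsFinite ρ := by
      let A := fun l => B.ι ⁻¹ᵁ W l
      haveI : ∀ l, IsFinite ((A l).ι ≫ ρ) := fun l => by
        haveI := hfinW l
        have h1 := isFinite_restrict_comp π (W l) N'
        haveI : IsOpenImmersion ((W l).ι ∣_ B) := inferInstance
        let i := IsOpenImmersion.isoOfRangeEq ((W l).ι ∣_ B) (A l).ι (by
          rw [Scheme.Opens.range_ι]
          ext z
          constructor
          · rintro ⟨a, rfl⟩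
            show B.ι (((W l).ι ∣_ B) a) ∈ W l
            rw [← Scheme.Hom.comp_apply, morphismRestrict_ι]
            exact (((W l).ι ⁻¹ᵁ B).ι a).2
          · intro hz
            refine ⟨⟨⟨B.ι z, hz⟩, z.2⟩, B.ι.isOpenEmbedding.injective ?_⟩
            rw [← Scheme.Hom.comp_apply, morphismRestrict_ι]; rfl)
        have h2 : IsFinite (i.inv ≫ ((W l).ι ∣_ B) ≫ ρ) := inferInstance
        rw [← Category.assoc, IsOpenImmersion.isoOfRangeEq_inv_fac] at h2
        exact h2
      have hsup := isFinite_finset_sup ρ A Finset.univ (fun l _ => inferInstance) (fun l _ l' _ hne => by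
        rw [disjoint_iff]
        ext z
        simp only [TopologicalSpace.Opens.coe_inf, Set.mem_inter_iff, TopologicalSpace.Opens.coe_bot,
          Set.mem_empty_iff_false, iff_false]
        rintro ⟨hz, hz'⟩
        exact hne (hdisj l l' (B.ι z) hz hz' (hN'sub z.2).1))
      have htop : Finset.univ.sup A = ⊤ := by
        rw [eq_top_iff]
        intro z _
        obtain ⟨l, hl⟩ := (hN _ (hN'sub z.2).1).2 (hS _ z.2) (B.ι z) rfl
        exact (Finset.le_sup (f := A) (Finset.mem_univ l)) (show z ∈ A l from hl)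
      rw [htop] at hsup
      haveI : IsIso (⊤ : B.toScheme.Opens).ι := inferInstanceAs (IsIso B.toScheme.topIso.hom)
      have h3 : IsFinite (inv (⊤ : B.toScheme.Opens).ι ≫ (⊤ : B.toScheme.Opens).ι ≫ ρ) := inferInstance
      rwa [IsIso.inv_hom_id_assoc] at h3
    -- descend along the surjection onto `V`
    let k : N'.toScheme ⟶ V.toScheme := gU.resLE V N' fun v hv => ⟨v, hv, rfl⟩
    have hk : k ≫ V.ι = N'.ι ≫ gU := Scheme.Hom.resLE_comp_ι ..
    haveI : Flat k := by
      haveI : Flat (k ≫ V.ι) := by rw [hk]; infer_instance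
      exact MorphismProperty.of_postcomp (W := @Flat) (W' := @IsOpenImmersion) k V.ι inferInstance ‹_›
    haveI : Surjective k := ⟨fun v => by
      obtain ⟨v', hv', hvv⟩ := v.2
      refine ⟨⟨v', hv'⟩, V.ι.isOpenEmbedding.injective ?_⟩
      rw [← Scheme.Hom.comp_apply, hk]
      exact hvv⟩
    haveI : IsAffine N' := hN'
    haveI : IsAffine Y₁ := hY₁
    haveI : QuasiSeparatedSpace V := by
      let j := Y.homOfLE (show V ≤ Y₁ by rintro _ ⟨v, hv, rfl⟩; exact (hN'sub hv).2)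
      exact j.isOpenEmbedding.quasiSeparatedSpace
    haveI : QuasiCompact k := inferInstance
    haveI := FpqcDesc.descendsAlong_isFinite.{u}
    have hpb : IsPullback ρ ((π ⁻¹ᵁ N').ι ≫ pullback.fst f gU) (N'.ι ≫ gU) f :=
      ((isPullback_morphismRestrict π N').paste_vert (IsPullback.of_hasPullback f gU).flip)
    let l : B.toScheme ⟶ (f ⁻¹ᵁ V).toScheme := IsOpenImmersion.lift (f ⁻¹ᵁ V).ι (B.ι ≫ pullback.fst f gU) (by
      rintro _ ⟨z, rfl⟩
      rw [Scheme.Opens.range_ι]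
      refine ⟨π (B.ι z), z.2, ?_⟩
      show (π ≫ gU) (B.ι z) = f (pullback.fst f gU (B.ι z))
      rw [← Scheme.Hom.comp_apply (pullback.fst f gU) f, pullback.condition])
    have hl : l ≫ (f ⁻¹ᵁ V).ι = B.ι ≫ pullback.fst f gU := IsOpenImmersion.lift_fac ..
    have hcomm : ρ ≫ k = l ≫ (f ∣_ V) := by
      rw [← cancel_mono V.ι, Category.assoc, Category.assoc, hk, morphismRestrict_ι, reassoc_of% hl]
      exact hpb.w
    have hsq : IsPullback ρ l k (f ∣_ V) :=
      IsPullback.of_bot (v₂₁ := (f ⁻¹ᵁ V).ι) (v₂₂ := V.ι) (h₃₁ := f)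
        (by rw [hl, hk]; exact hpb) hcomm (isPullback_morphismRestrict f V)
    exact MorphismProperty.of_isPullback_of_descendsAlong (P := @IsFinite)
      (Q := @Surjective ⊓ @Flat ⊓ @QuasiCompact) hsq ⟨⟨inferInstance, inferInstance⟩, inferInstance⟩ hρ
  choose V hyV hVS hVfin using hloc
  have hYd : IsOpen S := isOpen_iff_forall_mem_open.2 fun y hy => ⟨V y hy, hVS y hy, (V y hy).2, hyV y hy⟩
  refine ⟨hYd, ?_⟩
  let T : Y.Opens := ⟨S, hYd⟩
  let T' := fun y : S => T.ι ⁻¹ᵁ V y.1 y.2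
  refine (IsZariskiLocalAtTarget.iff_of_iSup_eq_top (P := @IsFinite) T' ?_).2 fun y => ?_
  · rw [eq_top_iff]
    intro z _
    exact TopologicalSpace.Opens.mem_iSup.2 ⟨⟨z.1, z.2⟩, hyV z.1 z.2⟩
  · have himg : T.ι ''ᵁ T' y = V y.1 y.2 := by
      rw [Scheme.Hom.image_preimage_eq_opensRange_inf, Scheme.Opens.opensRange_ι, inf_eq_right]
      exact hVS y.1 y.2
    rw [MorphismProperty.arrow_mk_iso_iff @IsFinite (morphismRestrictRestrict f T (T' y)), himg]
    exact hVfin y.1 y.2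

end Groth.Agent.Weight
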