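import Groth.Agent.Lib.Weight4.Constr
import Groth.Agent.Lib.Weight4.Fibre

/-!
# Level sets of fibre integrals are locally constructible
-/

universe u

open AlgebraicGeometry CategoryTheory Limits IsLocalRing Topology

namespace Groth.Agent.Weight

variable {X Y : Scheme.{u}}

/-- A constructible set whose image avoids a point avoids a constructible neighbourhood of it. -/
theorem exists_constructible_avoid {P U : Scheme.{u}} (q : P ⟶ U) [IsAffine U] [CompactSpace P]
    [QuasiSeparatedSpace P] {D : Set P} (hD : IsConstructible D) (u : U) (hu : u ∉ q '' D) :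
    ∃ E : Set U, IsConstructible E ∧ u ∈ E ∧ ∀ z ∈ D, q z ∉ E := by
  classical
  haveI : SpectralSpace U := SpectralSpace.mk
  have hsep : ∀ d : D, ∃ C : Set U, IsConstructible C ∧ q d.1 ∈ C ∧ u ∉ C := by
    intro d
    obtain ⟨V, hVo, hVc, hiff⟩ := PtSet.exists_compactOpen_separating
      (show q d.1 ≠ u from fun h => hu ⟨d.1, d.2, h⟩)
    by_cases hd : q d.1 ∈ V
    · exact ⟨V, hVc.isConstructible hVo, hd, hiff.1 hd⟩
    · exact ⟨Vᶜ, isConstructible_compl.2 (hVc.isConstructible hVo), hd,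
        fun ht => ht (not_not.1 fun hn => hd (hiff.2 hn))⟩
  choose C hCc hCd hCt using hsep
  obtain ⟨s, hs⟩ := exists_finset_cover hD (fun d => q ⁻¹' C d)
    (fun d => q.isConstructible_preimage (hCc d)) (fun d hd => Set.mem_iUnion.2 ⟨⟨d, hd⟩, hCd ⟨d, hd⟩⟩)
  refine ⟨(⋃ d ∈ (↑s : Set D), C d)ᶜ, isConstructible_compl.2
    (IsConstructible.biUnion s.finite_toSet fun d _ => hCc d), ?_, ?_⟩
  · simp only [Set.mem_compl_iff, Set.mem_iUnion, not_exists]
    exact fun d _ hd => hCt d hd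
  · intro z hz hzE
    obtain ⟨d, hds, hd⟩ := Set.mem_iUnion₂.1 (hs hz)
    exact hzE (Set.mem_iUnion₂.2 ⟨d, hds, hd⟩)

/-- Pieces splitting a fibre compute the integral. -/
theorem sum_pieces_eq {f : X ⟶ Y} [LocallyQuasiFinite f] [LocallyOfFiniteType f]
    (hfin : ∀ y : Y, (f ⁻¹' {y}).Finite) {U : Scheme.{u}} (gU : U ⟶ Y) {L : Type*} [Fintype L]
    (W : L → (pullback f gU).Opens) (w : X → ℤ) (v : U)
    (hfinP : (pullback.snd f gU ⁻¹' {v}).Finite)
    (hcov : ∀ z, pullback.snd f gU z = v → ∃! l, z ∈ W l) :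
    ∑ l, MoreMor.fibreIntegral ((W l).ι ≫ pullback.snd f gU)
        (fun z => w (pullback.fst f gU ((W l).ι z))) v = MoreMor.fibreIntegral f w (gU v) := by
  classical
  rw [← fibreIntegral_baseChange hfin (IsPullback.of_hasPullback f gU) w v]
  calc _ = ∑ l, MoreMor.fibreIntegral (pullback.snd f gU)
        ((W l : Set (pullback f gU : Scheme.{u})).indicator (w ∘ ⇑(pullback.fst f gU))) v :=
        Finset.sum_congr rfl fun l _ =>
          fibreIntegral_indicator (pullback.snd f gU) (W l) (w ∘ ⇑(pullback.fst f gU)) v hfinP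
    _ = _ := by
      rw [fibreIntegral_sum _ _ v hfinP]
      refine fibreIntegral_congr _ _ _ v fun z hz => ?_
      obtain ⟨l, hl, huniq⟩ := hcov z hz
      rw [Finset.sum_eq_single l (fun l' _ hne => Set.indicator_of_notMem (fun h => hne (huniq l' h)) _)
        (fun h => absurd (Finset.mem_univ l) h),
        Set.indicator_of_mem (show z ∈ (W l : Set (pullback f gU : Scheme.{u})) from hl)]

/-- The fibre integral is constant on a constructible neighbourhood in each affine open of the base. -/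
theorem exists_constructible_fibreIntegral_eq {f : X ⟶ Y} [LocallyQuasiFinite f] [LocallyOfFiniteType f]
    [QuasiCompact f] [QuasiSeparated f] (w : X → ℤ) (hw : MoreMor.IsWeighting f w) {Y₀ : Y.Opens}
    (hY₀ : IsAffineOpen Y₀) (y : Y₀) :
    ∃ C : Set Y₀, IsConstructible C ∧ y ∈ C ∧
      ∀ y' ∈ C, MoreMor.fibreIntegral f w y'.1 = MoreMor.fibreIntegral f w y.1 := by
  classical
  have hfin : ∀ y : Y, (f ⁻¹' {y}).Finite := fun y => f.finite_preimage_singleton y
  obtain ⟨U, gU, u, n, W, hgU, hu, hfinW, hcov, hdisj⟩ := exists_fibre_pieces f y.1 (hfin _)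
  haveI := hgU
  haveI : ∀ l, IsFinite ((W l).ι ≫ pullback.snd f gU) := hfinW
  let π := pullback.snd f gU
  let G : Fin n → U → ℤ := fun l => MoreMor.fibreIntegral ((W l).ι ≫ π)
        (fun z => w (pullback.fst f gU ((W l).ι z)))
  obtain ⟨U', hU', huU', hU'sub⟩ := exists_isAffineOpen_mem_and_subset
    (U := ⟨(gU ⁻¹ᵁ Y₀ : Set U) ∩ ⋂ l, {v | G l v = G l u}, (gU ⁻¹ᵁ Y₀).2.inter
      (isOpen_iInter_of_finite fun l => (hw U gU (W l) (hfinW l)).isOpen_fiber _)⟩) (x := u)
    ⟨by show gU u ∈ Y₀; rw [hu]; exact y.2, Set.mem_iInter.2 fun l => rfl⟩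
  haveI : IsAffine U' := hU'
  haveI : IsAffine Y₀ := hY₀
  let q := π ∣_ U'
  haveI : CompactSpace (π ⁻¹ᵁ U').toScheme := QuasiCompact.compactSpace_of_compactSpace q
  haveI : QuasiSeparatedSpace (π ⁻¹ᵁ U').toScheme := quasiSeparatedSpace_of_quasiSeparated q
  let B := π ⁻¹ᵁ U'
  let A : Fin n → B.toScheme.Opens := fun l => B.ι ⁻¹ᵁ W l
  have hA : ∀ l, IsConstructible (A l : Set B.toScheme) := by
    intro l
    haveI : IsFinite (((W l).ι ≫ π) ∣_ U') := IsZariskiLocalAtTarget.restrict (hfinW l) U'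
    haveI : IsAffine (((W l).ι ≫ π) ⁻¹ᵁ U').toScheme := isAffine_of_isAffineHom (((W l).ι ≫ π) ∣_ U')
    haveI : CompactSpace ((W l).ι ⁻¹ᵁ B).toScheme :=
      inferInstanceAs (CompactSpace (((W l).ι ≫ π) ⁻¹ᵁ U').toScheme)
    refine IsCompact.isConstructible ?_ (A l).2
    have hr : Set.range ((W l).ι ∣_ B) = (A l : Set B.toScheme) := by
      ext z
      constructor
      · rintro ⟨a, rfl⟩
        show B.ι (((W l).ι ∣_ B) a) ∈ W l
        rw [← Scheme.Hom.comp_apply, morphismRestrict_ι]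
        exact (((W l).ι ⁻¹ᵁ B).ι a).2
      · intro hz
        refine ⟨⟨⟨B.ι z, hz⟩, z.2⟩, B.ι.isOpenEmbedding.injective ?_⟩
        rw [← Scheme.Hom.comp_apply, morphismRestrict_ι]; rfl
    rw [← hr]
    exact isCompact_range ((W l).ι ∣_ B).continuous
  let D : Set B.toScheme := (⋃ l, (A l : Set B.toScheme))ᶜ ∪
    ⋃ p : {p : Fin n × Fin n // p.1 ≠ p.2}, ((A p.1.1 : Set B.toScheme) ∩ A p.1.2)
  have hD : IsConstructible D :=
    (isConstructible_compl.2 (IsConstructible.iUnion hA)).union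
      (IsConstructible.iUnion fun p => (hA _).inter (hA _))
  have hqu : ∀ z : B.toScheme, (U'.ι (q z) : U) = π (B.ι z) := fun z => by
    rw [← Scheme.Hom.comp_apply, morphismRestrict_ι]; rfl
  obtain ⟨E, hE, huE, hDE⟩ := exists_constructible_avoid q hD ⟨u, huU'⟩ (by
    rintro ⟨z, hz, hzu⟩
    have hzu' : π (B.ι z) = u := by rw [← hqu, hzu]; rfl
    rcases hz with hz | hz
    · obtain ⟨l, hl⟩ := hcov _ hzu'
      exact hz (Set.mem_iUnion.2 ⟨l, hl⟩)
    · obtain ⟨⟨⟨l, l'⟩, hne⟩, h1, h2⟩ := Set.mem_iUnion.1 hz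
      exact hne (hdisj l l' _ h1 h2 hzu'))
  have hfinP : ∀ v, (π ⁻¹' {v}).Finite := fun v => π.finite_preimage_singleton v
  have key : ∀ v : U', v ∈ E → MoreMor.fibreIntegral f w (gU v.1) = MoreMor.fibreIntegral f w y.1 := by
    intro v hv
    have h1 : ∀ v : U', v ∈ E → MoreMor.fibreIntegral f w (gU v.1) = ∑ l, G l v.1 := by
      intro v hv
      refine (sum_pieces_eq hfin gU W w v.1 (hfinP _) fun z hz => ?_).symm
      let z' : B.toScheme := ⟨z, by show π z ∈ U'; rw [hz]; exact v.2⟩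
      have hz' : q z' = v := U'.ι.isOpenEmbedding.injective (by rw [hqu]; exact hz)
      have hzD : z' ∉ D := fun h => hDE z' h (hz' ▸ hv)
      obtain ⟨l, hl⟩ := Set.mem_iUnion.1 (not_not.1 fun h => hzD (Or.inl h))
      exact ⟨l, hl, fun l' hl' => not_not.1 fun hne =>
        hzD (Or.inr (Set.mem_iUnion.2 ⟨⟨(l', l), hne⟩, hl', hl⟩))⟩
    rw [h1 v hv, ← hu, h1 ⟨u, huU'⟩ huE]
    exact Finset.sum_congr rfl fun l _ => Set.mem_iInter.1 (hU'sub v.2).2 l
  let r := gU.resLE Y₀ U' fun v hv => (hU'sub hv).1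
  haveI : LocallyOfFinitePresentation r := by
    haveI : LocallyOfFinitePresentation (r ≫ Y₀.ι) := by
      rw [Scheme.Hom.resLE_comp_ι]; infer_instance
    exact SchBasic.locallyOfFinitePresentation_of_comp r Y₀.ι
  have hr : ∀ v : U', (r v).1 = gU v.1 := fun v => by
    show Y₀.ι (r v) = _
    rw [← Scheme.Hom.comp_apply, Scheme.Hom.resLE_comp_ι]; rfl
  refine ⟨r '' E, r.isConstructible_image hE, ⟨⟨u, huU'⟩, huE, Subtype.ext ((hr _).trans hu)⟩, ?_⟩
  rintro _ ⟨v, hv, rfl⟩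
  rw [hr]; exact key v hv

/-- Level sets of fibre integrals are locally constructible. -/
theorem isLocallyConstructible_fibreIntegral {f : X ⟶ Y} [LocallyQuasiFinite f] [LocallyOfFiniteType f]
    [QuasiCompact f] [QuasiSeparated f] (w : X → ℤ) (hw : MoreMor.IsWeighting f w) (n : ℤ) :
    IsLocallyConstructible {y : Y | MoreMor.fibreIntegral f w y = n} := by
  classical
  intro x
  obtain ⟨Y₀, hY₀, hx, -⟩ := exists_isAffineOpen_mem_and_subset (U := ⊤) (x := x) (Set.mem_univ x)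
  haveI : IsAffine Y₀ := hY₀
  refine ⟨Y₀, Y₀.2.mem_nhds hx, Y₀.2, ?_⟩
  choose C hC hyC hCeq using exists_constructible_fibreIntegral_eq w hw hY₀
  obtain ⟨s, hs⟩ := exists_finset_cover (Z := Y₀) IsConstructible.univ C hC
    (fun y _ => Set.mem_iUnion.2 ⟨y, hyC y⟩)
  have heq : {y : Y₀ | MoreMor.fibreIntegral f w y.1 = n} =
      ⋃ i : {i : Y₀ // i ∈ s ∧ MoreMor.fibreIntegral f w i.1 = n}, C i.1 := by
    ext y
    refine Iff.intro (fun hy => ?_) (fun hy => ?_)
    · obtain ⟨i, hi, hyi⟩ := Set.mem_iUnion₂.1 (hs (Set.mem_univ y))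
      exact Set.mem_iUnion.2 ⟨⟨i, hi, (hCeq i y hyi).symm.trans hy⟩, hyi⟩
    · obtain ⟨j, hj⟩ := Set.mem_iUnion.1 hy
      exact (hCeq j.1 y hj).trans j.2.2
  haveI hfi : Finite {i : Y₀ // i ∈ s ∧ MoreMor.fibreIntegral f w i.1 = n} :=
    Finite.of_injective (fun i => (⟨i.1, i.2.1⟩ : s)) fun a b h => Subtype.ext (congrArg (fun j : s => j.1) h)
  show IsConstructible {y : Y₀ | MoreMor.fibreIntegral f w y.1 = n}
  rw [heq]
  exact IsConstructible.iUnion fun j => hC j.1

end Groth.Agent.Weight
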