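import Groth.Agent.Lib.AlgSpDecent.DegStrat
import Groth.Agent.Lib.Weight4.MultRank
import Groth.Agent.Lib.Weight4.Strat

/-!
# Global sections of quasi-finite fibres and the fibre degree
-/

universe u

open CategoryTheory CategoryTheory.Limits AlgebraicGeometry IsLocalRing

noncomputable section

set_option backward.isDefEq.respectTransparency.types false

namespace Groth.Agent.DegRank

open Groth.Agent.AlgSpDecent

variable {K : Type u} [Field K]

/-- The dimension of the global sections of a scheme over a field. -/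
def rk {P : Scheme.{u}} (c : P ⟶ Spec (CommRingCat.of K)) : Cardinal.{u} :=
  letI := ((Scheme.ΓSpecIso (CommRingCat.of K)).inv ≫ c.appTop).hom.toAlgebra
  Module.rank K (Γ(P, ⊤) : Type u)

theorem rk_eq_finrank {P : Scheme.{u}} (c : P ⟶ Spec (CommRingCat.of K)) [IsFinite c] :
    rk c = (c.finrank (closedPoint K) : Cardinal.{u}) := by
  have : IsAffine P := isAffine_of_isAffineHom c
  letI := ((Scheme.ΓSpecIso (CommRingCat.of K)).inv ≫ c.appTop).hom.toAlgebra
  have he : P.isoSpec.hom ≫ Spec.map (CommRingCat.ofHom (algebraMap K Γ(P, ⊤))) = c := by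
    show P.isoSpec.hom ≫ Spec.map ((Scheme.ΓSpecIso _).inv ≫ c.appTop) = c
    rw [Spec.map_comp, Scheme.isoSpec_hom, ← Scheme.toSpecΓ_naturality_assoc,
      ← SpecMap_ΓSpecIso_hom, ← Spec.map_comp, Iso.inv_hom_id, Spec.map_id, Category.comp_id]
  have hfin : IsFinite (Spec.map (CommRingCat.ofHom (algebraMap K Γ(P, ⊤)))) :=
    (MorphismProperty.cancel_left_of_respectsIso @IsFinite P.isoSpec.hom _).1 (he.symm ▸ ‹IsFinite c›)
  rw [IsFinite.SpecMap_iff, CommRingCat.hom_ofHom, RingHom.finite_algebraMap] at hfin
  rw [DegStrat.finrank_closedPoint P.isoSpec c he]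
  exact (Module.finrank_eq_rank K _).symm

theorem discreteTopology_of_lqf {P : Scheme.{u}} (c : P ⟶ Spec (CommRingCat.of K))
    [LocallyQuasiFinite c] [LocallyOfFiniteType c] : DiscreteTopology P := by
  have h : c ⁻¹' {closedPoint K} = Set.univ :=
    Set.eq_univ_iff_forall.2 fun y => Subsingleton.elim (α := PrimeSpectrum K) _ _
  exact isDiscrete_univ_iff.1 (h ▸ c.isDiscrete_preimage_singleton (closedPoint K))

/-- Restriction to a clopen is surjective on sections. -/
theorem surjective_restrict {P : Scheme.{u}} (W : P.Opens) (hW : IsClosed (W : Set P)) :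
    Function.Surjective (P.presheaf.map (homOfLE (le_top : W ≤ ⊤)).op) := by
  intro s
  let W' : P.Opens := ⟨(W : Set P)ᶜ, hW.isOpen_compl⟩
  let U : Bool → P.Opens := fun b => cond b W W'
  have hdisj : W ⊓ W' = ⊥ := TopologicalSpace.Opens.ext (Set.inter_compl_self _)
  let sf : ∀ b, Γ(P, U b) := fun b => Bool.rec (motive := fun b => Γ(P, U b)) 0 s b
  have hcompat : TopCat.Presheaf.IsCompatible P.sheaf.1 U sf := by
    intro i j
    have hs : ∀ V : P.Opens, V = ⊥ → Subsingleton Γ(P, V) := by rintro _ rfl; infer_instance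
    cases i <;> cases j
    · rfl
    · exact @Subsingleton.elim _ (hs (W' ⊓ W) (by rw [inf_comm]; exact hdisj)) _ _
    · exact @Subsingleton.elim _ (hs (W ⊓ W') hdisj) _ _
    · rfl
  obtain ⟨t, ht, -⟩ := P.sheaf.existsUnique_gluing' U ⊤ (fun b => homOfLE le_top)
    (fun x _ => TopologicalSpace.Opens.mem_iSup.2 (by
      by_cases hx : x ∈ W
      exacts [⟨true, hx⟩, ⟨false, hx⟩])) sf hcompat
  exact ⟨t, ht true⟩

theorem rk_open_le {P : Scheme.{u}} (c : P ⟶ Spec (CommRingCat.of K)) [DiscreteTopology P]
    (W : P.Opens) : rk (W.ι ≫ c) ≤ rk c := by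
  letI := ((Scheme.ΓSpecIso (CommRingCat.of K)).inv ≫ c.appTop).hom.toAlgebra
  letI : Algebra K Γ(W.toScheme, ⊤) :=
    ((Scheme.ΓSpecIso (CommRingCat.of K)).inv ≫ (W.ι ≫ c).appTop).hom.toAlgebra
  let φ : Γ(P, ⊤) →ₐ[K] Γ(W.toScheme, ⊤) :=
    { W.ι.appTop.hom with commutes' := fun r => rfl }
  have hφ : Function.Surjective φ.toLinearMap := by
    show Function.Surjective W.ι.appTop
    rw [Scheme.Opens.ι_appTop]
    exact surjective_restrict _ (isClosed_discrete _)
  exact φ.toLinearMap.rank_le_of_surjective hφ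

theorem isFinite_of_finite {P : Scheme.{u}} (c : P ⟶ Spec (CommRingCat.of K)) [Finite P]
    [LocallyQuasiFinite c] : IsFinite c := by
  have : CompactSpace P := ⟨Set.finite_univ.isCompact⟩
  have : QuasiCompact c := HasAffineProperty.iff_of_isAffine.mpr ‹CompactSpace P›
  exact .of_locallyQuasiFinite c

theorem card_le_finrank {P : Scheme.{u}} (c : P ⟶ Spec (CommRingCat.of K)) [IsFinite c] :
    Nat.card P ≤ c.finrank (closedPoint K) :=
  FinLE.card_le ⟨inferInstance, fun s =>
    le_of_eq (congrArg c.finrank (Subsingleton.elim (α := PrimeSpectrum K) _ _))⟩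

/-- Each point contributes at least one dimension. -/
theorem card_le_rk {P : Scheme.{u}} (c : P ⟶ Spec (CommRingCat.of K)) [LocallyQuasiFinite c]
    [LocallyOfFiniteType c] (F : Finset P) : (F.card : Cardinal.{u}) ≤ rk c := by
  have := discreteTopology_of_lqf c
  let W : P.Opens := ⟨(F : Set P), isOpen_discrete _⟩
  have : Finite W := F.finite_toSet.to_subtype
  have := isFinite_of_finite (W.ι ≫ c)
  refine le_trans ?_ (rk_open_le c W)
  rw [rk_eq_finrank, Nat.cast_le]
  refine le_of_eq_of_le ?_ (card_le_finrank (W.ι ≫ c))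
  show F.card = Nat.card (F : Set P)
  simp

variable {X S : Scheme.{u}} (f : X ⟶ S)

theorem isFinite_fiber_of_finite [LocallyQuasiFinite f] (y : S) (h : (f ⁻¹' {y}).Finite) :
    IsFinite (f.fiberToSpecResidueField y) := by
  have := h.to_subtype
  have : Finite (f.fiber y) := Finite.of_equiv _ (f.fiberHomeo y).symm.toEquiv
  have : LocallyQuasiFinite (f.fiberToSpecResidueField y) :=
    MorphismProperty.pullback_snd f _ inferInstance
  exact isFinite_of_finite (K := S.residueField y) _

/-- Over a field valued point a base change with finite fibre is finite. -/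
theorem isFinite_snd (g : Spec (CommRingCat.of K) ⟶ S) {P : Scheme.{u}} {a : P ⟶ X}
    {c : P ⟶ Spec (CommRingCat.of K)} (sq : IsPullback a c f g)
    (h : IsFinite (f.fiberToSpecResidueField (g (closedPoint K)))) : IsFinite c := by
  let e := Spec.map (S.descResidueField (Scheme.stalkClosedPointTo g))
  have he : e ≫ S.fromSpecResidueField _ = g :=
    Scheme.descResidueField_stalkClosedPointTo_fromSpecResidueField K S g
  let k : P ⟶ f.fiber (g (closedPoint K)) := pullback.lift a (c ≫ e) (by
    rw [Category.assoc, he, sq.w])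
  have sq' : IsPullback k c (f.fiberToSpecResidueField (g (closedPoint K))) e := by
    have hk : k ≫ pullback.fst f (S.fromSpecResidueField (g (closedPoint K))) = a :=
      pullback.lift_fst _ _ _
    exact IsPullback.of_right (by convert! sq) (pullback.lift_snd _ _ _)
      (IsPullback.of_hasPullback f (S.fromSpecResidueField (g (closedPoint K))))
  exact MorphismProperty.of_isPullback sq' h

/-- The dimension of the sections over a field valued point is the fibre degree. -/
theorem rk_eq_deg [Flat f] (g : Spec (CommRingCat.of K) ⟶ S) {P : Scheme.{u}} {a : P ⟶ X}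
    {c : P ⟶ Spec (CommRingCat.of K)} (sq : IsPullback a c f g)
    (h : IsFinite (f.fiberToSpecResidueField (g (closedPoint K)))) :
    rk c = (DegStrat.deg f (g (closedPoint K)) : Cardinal.{u}) := by
  have := isFinite_snd f g sq h
  have : Flat c := MorphismProperty.of_isPullback sq ‹Flat f›
  have := h
  rw [rk_eq_finrank, ← DegStrat.deg_eq_finrank, DegStrat.deg_baseChange sq]

/-- The fibre degree is the fibre integral of the multiplicity. -/
theorem deg_eq_fibreIntegral [Flat f] [LocallyOfFinitePresentation f] [IsSeparated f]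
    [LocallyQuasiFinite f] [QuasiCompact f] (y : S) :
    (DegStrat.deg f y : ℤ) = MoreMor.fibreIntegral f (Weight.wt f) y := by
  have hfin : ∀ y, IsFinite (f.fiberToSpecResidueField y) := fun y => inferInstance
  obtain ⟨T, e, t, V, he, het, hV, hall⟩ := DegStrat.exists_split_nhd f hfin y
  have := he
  have := hV
  let p := pullback.snd f e
  have : Flat p := MorphismProperty.pullback_snd f e inferInstance
  have : LocallyQuasiFinite p := MorphismProperty.pullback_snd f e inferInstance
  have : LocallyOfFiniteType p := MorphismProperty.pullback_snd f e inferInstance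
  have : QuasiCompact p := MorphismProperty.pullback_snd f e inferInstance
  have := hfin (e t)
  have : IsFinite (p.fiberToSpecResidueField t) :=
    DegStrat.isFinite_fibre_baseChange (IsPullback.of_hasPullback f e) t
  have h1 : DegStrat.deg f y = (V.ι ≫ p).finrank t := by
    rw [← het, ← DegStrat.deg_baseChange (IsPullback.of_hasPullback f e) t,
      ← DegStrat.deg_eq_finrank]
    exact ((DegStrat.deg_piece p V t).2.2 hall).symm
  rw [h1, ← Weight.fibreIntegral_wt_eq_finrank, ← het,
    ← Weight.fibreIntegral_baseChange (fun v => f.finite_preimage_singleton v)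
      (IsPullback.of_hasPullback f e) (Weight.wt f) t]
  obtain ⟨τ, hτ⟩ := Weight.exists_geomPt t
  rw [Weight.fibreIntegral_eq (V.ι ≫ p) (fun z => (V.ι ≫ p).quasiFiniteAt z) _ τ t hτ
      ((V.ι ≫ p).finite_preimage_singleton t),
    Weight.fibreIntegral_eq p (fun z => p.quasiFiniteAt z) _ τ t hτ (p.finite_preimage_singleton t)]
  refine finsum_eq_of_bijective (fun a => ⟨a.1 ≫ V.ι, by rw [Category.assoc]; exact a.2⟩) ⟨?_, ?_⟩ ?_
  · exact fun a b hab => Subtype.ext ((cancel_mono V.ι).1 (Subtype.ext_iff.1 hab))
  · rintro ⟨b, hb⟩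
    have hbV : Set.range b ⊆ Set.range V.ι := by
      rintro _ ⟨z, rfl⟩
      rw [V.range_ι, Subsingleton.elim (α := PrimeSpectrum _) z (closedPoint _)]
      exact hall _ ((congrArg Weight.pt hb : Weight.pt (b ≫ p) = Weight.pt τ).trans hτ)
    exact ⟨⟨IsOpenImmersion.lift V.ι b hbV, by rw [IsOpenImmersion.lift_fac_assoc, hb]⟩,
      Subtype.ext (IsOpenImmersion.lift_fac _ _ _)⟩
  · intro a
    exact Weight.wt_of_commSq (f := f) (f' := V.ι ≫ p) (j := V.ι ≫ pullback.fst f e) (g := e)
      (by rw [Category.assoc, Category.assoc, pullback.condition]) _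

end Groth.Agent.DegRank
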