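import Groth.Agent.Lib.Weight4.LC

/-!
# Base change of weightings and of fibre integrals
-/

universe u

open AlgebraicGeometry CategoryTheory Limits IsLocalRing

namespace Groth.Agent.Weight

variable {X Y : Scheme.{u}} {f : X ⟶ Y}

/-- Base change of a weighting. -/
theorem isWeighting_baseChange [LocallyQuasiFinite f] [LocallyOfFiniteType f] (w : X → ℤ)
    (hw : MoreMor.IsWeighting f w) {X' Y' : Scheme.{u}} {f' : X' ⟶ Y'} {h : X' ⟶ X} {g : Y' ⟶ Y}
    (hc : IsPullback h f' f g) : MoreMor.IsWeighting f' (w ∘ ⇑h) := by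
  intro V gV _ A hA
  haveI := hA
  exact isLocallyConstant_fibreIntegral w hw
    ((IsPullback.of_hasPullback f' gV).paste_horiz hc) A

/-- Fibre integrals commute with base change. -/
theorem fibreIntegral_baseChange {U V U' V' : Scheme.{u}} {π : U ⟶ V} [LocallyQuasiFinite π]
    [LocallyOfFiniteType π] (hfin : ∀ v : V, (π ⁻¹' {v}).Finite) {π' : U' ⟶ V'} {h : U' ⟶ U}
    {g : V' ⟶ V} (hc : IsPullback h π' π g) (w : U → ℤ) (v' : V') :
    MoreMor.fibreIntegral π' (w ∘ ⇑h) v' = MoreMor.fibreIntegral π w (g v') := by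
  obtain ⟨t, ht⟩ := exists_geomPt v'
  haveI : LocallyQuasiFinite π' := MorphismProperty.of_isPullback hc ‹LocallyQuasiFinite π›
  haveI : LocallyOfFiniteType π' := MorphismProperty.of_isPullback hc ‹LocallyOfFiniteType π›
  let Ω := AlgebraicClosure (V'.residueField v')
  haveI : Finite {a : Spec (CommRingCat.of Ω) ⟶ U // a ≫ π = t ≫ g} :=
    finite_lifts π (fun z => π.quasiFiniteAt z) _ (hfin _)
  let e : {a' : Spec (CommRingCat.of Ω) ⟶ U' // a' ≫ π' = t} ≃
      {a : Spec (CommRingCat.of Ω) ⟶ U // a ≫ π = t ≫ g} :=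
    { toFun := fun a' => ⟨a'.1 ≫ h, by rw [Category.assoc, hc.w, ← Category.assoc, a'.2]⟩
      invFun := fun a => ⟨hc.lift a.1 t a.2, hc.lift_snd ..⟩
      left_inv := fun a' => Subtype.ext
        (hc.hom_ext (hc.lift_fst ..) (by rw [hc.lift_snd, a'.2]))
      right_inv := fun a => Subtype.ext (hc.lift_fst ..) }
  haveI : Finite {a' : Spec (CommRingCat.of Ω) ⟶ U' // a' ≫ π' = t} := Finite.of_equiv _ e.symm
  have hfin' : (π' ⁻¹' {v'}).Finite := by
    refine (Set.finite_range fun a' : {a' : Spec (CommRingCat.of Ω) ⟶ U' // a' ≫ π' = t} => pt a'.1).subset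
      fun z hz => ?_
    obtain ⟨a, ha, haz⟩ := exists_lift_of_eq π' z (π'.quasiFiniteAt z) t (hz.trans ht.symm)
    exact ⟨⟨a, ha⟩, haz⟩
  rw [fibreIntegral_eq π' (fun z => π'.quasiFiniteAt z) _ t v' ht hfin',
    fibreIntegral_eq π (fun z => π.quasiFiniteAt z) w (t ≫ g) (g v') (by rw [pt_comp, ht]) (hfin _)]
  exact finsum_eq_of_bijective _ e.bijective fun a' => rfl

/-- A positive weighting makes the morphism universally open. -/
theorem universallyOpen_of_isWeighting [LocallyQuasiFinite f] [LocallyOfFiniteType f] (w : X → ℤ)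
    (hw : MoreMor.IsWeighting f w) (hpos : ∀ x, 0 < w x) : UniversallyOpen f := by
  refine (universallyOpen_iff f).2 ?_
  intro X' Y' i₁ i₂ f' hsq'
  have hsq := hsq'.flip
  haveI : LocallyQuasiFinite f' := MorphismProperty.of_isPullback hsq ‹LocallyQuasiFinite f›
  haveI : LocallyOfFiniteType f' := MorphismProperty.of_isPullback hsq ‹LocallyOfFiniteType f›
  exact isOpenMap_of_isWeighting f' _ (isWeighting_baseChange w hw hsq) fun _ => hpos _

/-- The weight of a point is at most the integral over its fibre. -/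
theorem le_fibreIntegral {U V : Scheme.{u}} (π : U ⟶ V) [IsFinite π] (φ : U → ℤ) (hφ : ∀ z, 0 ≤ φ z)
    (z : U) : φ z ≤ MoreMor.fibreIntegral π φ (π z) := by
  obtain ⟨t, ht⟩ := exists_geomPt (π z)
  rw [fibreIntegral_eq π (fun z => π.quasiFiniteAt z) φ t _ ht (π.finite_preimage_singleton _)]
  obtain ⟨a, ha, haz⟩ := exists_lift_of_eq π z (π.quasiFiniteAt z) t ht.symm
  haveI := finite_lifts π (fun z => π.quasiFiniteAt z) t (π.finite_preimage_singleton _)
  refine (congrArg φ haz).ge.trans ?_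
  exact single_le_finsum
    (f := fun b : {a : Spec (CommRingCat.of (AlgebraicClosure (V.residueField (π z)))) ⟶ U // a ≫ π = t} =>
      φ (pt b.1)) ⟨a, ha⟩ (Set.toFinite _) (fun b => hφ _)

/-- A positive weighting is upper semicontinuous. -/
theorem eventually_le_of_isWeighting [LocallyQuasiFinite f] [LocallyOfFiniteType f] (w : X → ℤ)
    (hw : MoreMor.IsWeighting f w) (hpos : ∀ x, 0 < w x) (x : X) :
    ∃ O : Set X, IsOpen O ∧ x ∈ O ∧ ∀ x' ∈ O, w x' ≤ w x := by
  obtain ⟨U, gU, W, u, hgU, hfin, -, ⟨z0, hz0, hz0u, hz0x⟩, -, hFI⟩ := exists_piece f x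
  haveI := hgU
  haveI := hfin
  let G := MoreMor.fibreIntegral (W.ι ≫ pullback.snd f gU) (fun z => w (pullback.fst f gU (W.ι z)))
  let S : Set (pullback f gU : Scheme.{u}) :=
    (W : Set (pullback f gU : Scheme.{u})) ∩ pullback.snd f gU ⁻¹' {y | G y = w x}
  refine ⟨pullback.fst f gU '' S, isOpenMap_of_etale (pullback.fst f gU) S (W.2.inter
    (((hw U gU W hfin).isOpen_fiber _).preimage (pullback.snd f gU).continuous)),
    ⟨z0, ⟨hz0, by show G _ = _; rw [hz0u]; exact hFI w⟩, hz0x⟩, ?_⟩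
  rintro _ ⟨z, ⟨hzW, hzG⟩, rfl⟩
  rw [← hzG]
  exact le_fibreIntegral (W.ι ≫ pullback.snd f gU) (fun z => w (pullback.fst f gU (W.ι z)))
    (fun _ => (hpos _).le) ⟨z, hzW⟩

end Groth.Agent.Weight
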