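import Groth.Agent.Lib.Weight4.Constr
import Groth.Agent.Lib.FlatH4.QFBound

/-!
# Boundedness of fibre integrals
-/

universe u

open AlgebraicGeometry CategoryTheory Limits IsLocalRing

namespace Groth.Agent.Weight

variable {X Y : Scheme.{u}}

/-- Sections of a scheme over an algebraically closed field are determined by their point. -/
theorem section_ext {P : Scheme.{u}} {Ω : Type u} [Field Ω] (π : P ⟶ Spec (CommRingCat.of Ω))
    (a b : Spec (CommRingCat.of Ω) ⟶ P) (ha : a ≫ π = 𝟙 _) (hb : b ≫ π = 𝟙 _) (h : pt a = pt b) :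
    a = b := by
  obtain ⟨z, hz⟩ : ∃ z, pt b = z := ⟨_, rfl⟩
  rw [hz] at h
  obtain ⟨e, rfl⟩ := exists_eq_fieldPt a z h
  obtain ⟨e', rfl⟩ := exists_eq_fieldPt b z hz
  congr 1
  obtain ⟨φ, hφ⟩ := Spec.map_surjective (P.fromSpecResidueField z ≫ π)
  rw [fieldPt, Category.assoc, ← hφ, ← Spec.map_comp, ← Spec.map_id] at ha hb
  have h1 := Spec.map_injective ha
  have h2 := Spec.map_injective hb
  have hsurj : Function.Surjective φ.hom := fun r => ⟨e.hom r, e.hom.injective
    (congr($(h1).hom (e.hom r)))⟩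
  ext r
  obtain ⟨s, rfl⟩ := hsurj r
  exact (congr($(h1).hom s)).trans (congr($(h2).hom s)).symm

/-- Geometric lifts inject into the points of the base change to the geometric point. -/
theorem injective_lift_point (f : X ⟶ Y) {Ω : Type u} [Field Ω] (t : Spec (CommRingCat.of Ω) ⟶ Y) :
    Function.Injective fun a : {a : Spec (CommRingCat.of Ω) ⟶ X // a ≫ f = t} =>
      pt (pullback.lift a.1 (𝟙 _) (by rw [Category.id_comp]; exact a.2) : _ ⟶ pullback f t) := by
  intro a b h
  have := section_ext (pullback.snd f t) _ _ (pullback.lift_snd ..) (pullback.lift_snd ..) h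
  apply Subtype.ext
  have h2 := congrArg (fun c => c ≫ pullback.fst f t) this
  simp only [pullback.lift_fst] at h2
  exact h2

/-- A fibre integral of a weighting on a quasi-compact source attains its maximum. -/
theorem exists_max_fibreIntegral (f : X ⟶ Y) [LocallyQuasiFinite f] [LocallyOfFiniteType f]
    [CompactSpace X] (w : X → ℤ) (hw : MoreMor.IsWeighting f w) [Nonempty Y] :
    ∃ y₀ : Y, ∀ y : Y, MoreMor.fibreIntegral f w y ≤ MoreMor.fibreIntegral f w y₀ := by
  classical
  obtain ⟨d, hd⟩ := FlatH4.exists_fibLE f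
  have hwfin : (Set.range w).Finite := by
    obtain ⟨s, hs⟩ := isCompact_univ.elim_finite_subcover
      (fun V : X.affineOpens => (V.1 : Set X)) (fun V => V.1.2) (fun x _ => by
        obtain ⟨V, hV, hx, -⟩ := exists_isAffineOpen_mem_and_subset (U := ⊤) (x := x) (Set.mem_univ x)
        exact Set.mem_iUnion.2 ⟨⟨V, hV⟩, hx⟩)
    refine (s.finite_toSet.biUnion fun V _ => (exists_finite_partition w hw V.2).2).subset ?_
    rintro _ ⟨x, rfl⟩
    obtain ⟨V, hV, hx⟩ := Set.mem_iUnion₂.1 (hs (Set.mem_univ x))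
    exact Set.mem_biUnion (x := V) hV ⟨⟨x, hx⟩, rfl⟩
  obtain ⟨M, hM⟩ := (hwfin.image fun n => |n|).bddAbove
  have hbound : ∀ y, MoreMor.fibreIntegral f w y ≤ max M 0 * d := by
    intro y
    obtain ⟨t, ht⟩ := exists_geomPt y
    let Ω := AlgebraicClosure (Y.residueField y)
    have hcard : ENat.card {a : Spec (CommRingCat.of Ω) ⟶ X // a ≫ f = t} ≤ d :=
      (ENat.card_le_card_of_injective (injective_lift_point f t)).trans (hd Ω t)
    haveI : Finite {a : Spec (CommRingCat.of Ω) ⟶ X // a ≫ f = t} := by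
      rcases finite_or_infinite {a : Spec (CommRingCat.of Ω) ⟶ X // a ≫ f = t} with h | h
      · exact h
      · rw [ENat.card_eq_top_of_infinite, top_le_iff] at hcard
        exact absurd hcard (ENat.natCast_ne_top d)
    have hfin : (f ⁻¹' {y}).Finite := by
      refine (Set.finite_range fun a : {a : Spec (CommRingCat.of Ω) ⟶ X // a ≫ f = t} => pt a.1).subset
        fun z hz => ?_
      obtain ⟨a, ha, haz⟩ := exists_lift_of_eq f z (f.quasiFiniteAt z) t (hz.trans ht.symm)
      exact ⟨⟨a, ha⟩, haz⟩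
    letI := Fintype.ofFinite {a : Spec (CommRingCat.of Ω) ⟶ X // a ≫ f = t}
    rw [fibreIntegral_eq f (fun z => f.quasiFiniteAt z) w t y ht hfin, finsum_eq_sum_of_fintype]
    refine (Finset.sum_le_card_nsmul _ _ (max M 0) fun a _ => ((le_abs_self _).trans
      (hM ⟨_, ⟨_, rfl⟩, rfl⟩)).trans (le_max_left M 0)).trans ?_
    rw [nsmul_eq_mul, mul_comm]
    refine mul_le_mul_of_nonneg_left ?_ (le_max_right M 0)
    rw [ENat.card_eq_coe_fintype_card] at hcard
    exact_mod_cast hcard
  obtain ⟨m, ⟨y₀, rfl⟩, hm⟩ := Int.exists_greatest_of_bdd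
    (P := fun n => ∃ y, MoreMor.fibreIntegral f w y = n)
    ⟨max M 0 * d, fun n ⟨y, hy⟩ => hy ▸ hbound y⟩ ⟨_, Classical.arbitrary Y, rfl⟩
  exact ⟨y₀, fun y => hm _ ⟨y, rfl⟩⟩

end Groth.Agent.Weight
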