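import Groth.Agent.Lib.Weight4.Split
import Groth.Agent.Lib.Weight4.Shrink

/-!
# Base change of finite opens, and splitting of finitely many geometric points
-/

universe u

open AlgebraicGeometry CategoryTheory Limits IsLocalRing

namespace Groth.Agent.Weight

variable {X Y P T P' T' : Scheme.{u}} {f : X ⟶ Y} {g : T ⟶ Y} {qX : P ⟶ X} {p : P ⟶ T}
  {g' : T' ⟶ Y} {qX' : P' ⟶ X} {p' : P' ⟶ T'}

/-- The map between base changes along `h`. -/
noncomputable def bcMap (H : IsPullback qX p f g) (H' : IsPullback qX' p' f g') (h : T' ⟶ T)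
    (hg : h ≫ g = g') : P' ⟶ P :=
  H.lift qX' (p' ≫ h) (by rw [Category.assoc, hg]; exact H'.w)

theorem bcMap_fst (H : IsPullback qX p f g) (H' : IsPullback qX' p' f g') (h : T' ⟶ T)
    (hg : h ≫ g = g') : bcMap H H' h hg ≫ qX = qX' := H.lift_fst ..

theorem bcMap_snd (H : IsPullback qX p f g) (H' : IsPullback qX' p' f g') (h : T' ⟶ T)
    (hg : h ≫ g = g') : bcMap H H' h hg ≫ p = p' ≫ h := H.lift_snd ..

theorem isPullback_bcMap (H : IsPullback qX p f g) (H' : IsPullback qX' p' f g') (h : T' ⟶ T)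
    (hg : h ≫ g = g') : IsPullback (bcMap H H' h hg) p' p h := by
  refine IsPullback.of_right ?_ (bcMap_snd H H' h hg) H
  rw [bcMap_fst, hg]
  exact H'

theorem isFinite_preimage (H : IsPullback qX p f g) (H' : IsPullback qX' p' f g') (h : T' ⟶ T)
    (hg : h ≫ g = g') (A : P.Opens) [IsFinite (A.ι ≫ p)] :
    IsFinite ((bcMap H H' h hg ⁻¹ᵁ A).ι ≫ p') := by
  have h1 := (isPullback_morphismRestrict (bcMap H H' h hg) A).paste_vert (isPullback_bcMap H H' h hg)
  exact MorphismProperty.of_isPullback h1 ‹IsFinite (A.ι ≫ p)›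

theorem inLift_preimage_iff (H : IsPullback qX p f g) (H' : IsPullback qX' p' f g') (h : T' ⟶ T)
    (hg : h ≫ g = g') (A : P.Opens) {Ω : Type u} [Field Ω] (t' : Spec (CommRingCat.of Ω) ⟶ T')
    (b : Spec (CommRingCat.of Ω) ⟶ X) :
    InLift H' (bcMap H H' h hg ⁻¹ᵁ A) t' b ↔ InLift H A (t' ≫ h) b := by
  constructor
  · rintro ⟨hb, hA⟩
    refine inLift_iff.2 ⟨H'.lift b t' hb ≫ bcMap H H' h hg, ?_, ?_, hA⟩
    · rw [Category.assoc, bcMap_fst, H'.lift_fst]
    · rw [Category.assoc, bcMap_snd, H'.lift_snd_assoc]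
  · rintro ⟨hb, hA⟩
    have hb' : b ≫ f = t' ≫ g' := by rw [hb, Category.assoc, hg]
    refine ⟨hb', ?_⟩
    show bcMap H H' h hg (pt (H'.lift b t' hb')) ∈ A
    have : H'.lift b t' hb' ≫ bcMap H H' h hg = H.lift b (t' ≫ h) hb :=
      H.hom_ext (by rw [Category.assoc, bcMap_fst, H'.lift_fst, H.lift_fst])
        (by rw [Category.assoc, bcMap_snd, H'.lift_snd_assoc, H.lift_snd])
    rw [← Scheme.Hom.comp_apply, this]
    exact hA

theorem sumOn_preimage (H : IsPullback qX p f g) (H' : IsPullback qX' p' f g') (h : T' ⟶ T)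
    (hg : h ≫ g = g') (A : P.Opens) (w : X → ℤ) {Ω : Type u} [Field Ω]
    (t' : Spec (CommRingCat.of Ω) ⟶ T') :
    sumOn H' (bcMap H H' h hg ⁻¹ᵁ A) w t' = sumOn H A w (t' ≫ h) :=
  sumOn_congr H' H _ _ w t' (t' ≫ h) fun b => inLift_preimage_iff H H' h hg A t' b

/-- A point of an open finite over the base carries a lift. -/
theorem exists_inLift_of_mem (H : IsPullback qX p f g) (A : P.Opens) [IsFinite (A.ι ≫ p)] {Ω : Type u}
    [Field Ω] [IsAlgClosed Ω] (t : Spec (CommRingCat.of Ω) ⟶ T) (z : P) (hz : z ∈ A) (hzt : p z = pt t) :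
    ∃ b, InLift H A t b ∧ ∀ hb, pt (H.lift b t hb) = z := by
  obtain ⟨c, hc, hcz⟩ := exists_lift_of_eq (A.ι ≫ p) ⟨z, hz⟩ ((A.ι ≫ p).quasiFiniteAt _) t hzt
  refine ⟨(c ≫ A.ι) ≫ qX, inLift_iff.2 ⟨c ≫ A.ι, rfl, by rw [Category.assoc]; exact hc, ?_⟩, fun hb => ?_⟩
  · show A.ι (pt c) ∈ A
    rw [hcz]; exact hz
  · rw [show H.lift ((c ≫ A.ι) ≫ qX) t hb = c ≫ A.ι from
      H.hom_ext (H.lift_fst ..) (by rw [H.lift_snd, Category.assoc]; exact hc.symm)]
    show A.ι (pt c) = z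
    rw [hcz]; rfl

theorem exists_split_fin {X S : Scheme.{u}} (f : X ⟶ S) [LocallyOfFiniteType f] {Ω : Type u} [Field Ω]
    [IsAlgClosed Ω] (s : Spec (CommRingCat.of Ω) ⟶ S) :
    ∀ (n : ℕ) (a : Fin n → (Spec (CommRingCat.of Ω) ⟶ X)), (∀ i, a i ≫ f = s) →
      (∀ i, f.QuasiFiniteAt (pt (a i))) →
      ∃ (U : Scheme.{u}) (g : U ⟶ S) (ū : Spec (CommRingCat.of Ω) ⟶ U)
        (W : Fin n → (pullback f g).Opens), Etale g ∧ ū ≫ g = s ∧
        (∀ i, IsFinite ((W i).ι ≫ pullback.snd f g)) ∧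
        ∀ i b, InLift (IsPullback.of_hasPullback f g) (W i) ū b ↔ b = a i := by
  intro n
  induction n with
  | zero =>
    intro a _ _
    exact ⟨S, 𝟙 S, s, Fin.elim0, inferInstance, Category.comp_id s, fun i => i.elim0, fun i => i.elim0⟩
  | succ n ih =>
    intro a ha hq
    obtain ⟨U₁, g₁, ū₁, W₁, hg₁, hū₁, hfin₁, huniq₁⟩ :=
      ih (fun i => a i.castSucc) (fun i => ha _) (fun i => hq _)
    obtain ⟨U₂, g₂, ū₂, W₂, hg₂, hū₂, hfin₂, huniq₂⟩ := exists_split_one f (a (Fin.last n)) (hq _)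
    have hū : ū₁ ≫ g₁ = ū₂ ≫ g₂ := by rw [hū₁, hū₂, ha]
    let g := pullback.fst g₁ g₂ ≫ g₁
    let m₁ := bcMap (IsPullback.of_hasPullback f g₁) (IsPullback.of_hasPullback f g)
      (pullback.fst g₁ g₂) rfl
    let m₂ := bcMap (IsPullback.of_hasPullback f g₂) (IsPullback.of_hasPullback f g)
      (pullback.snd g₁ g₂) pullback.condition.symm
    haveI := hg₁
    haveI := hg₂
    refine ⟨pullback g₁ g₂, g, pullback.lift ū₁ ū₂ hū,
      Fin.lastCases (m₂ ⁻¹ᵁ W₂) (fun i => m₁ ⁻¹ᵁ W₁ i), inferInstance,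
      by rw [pullback.lift_fst_assoc, hū₁], fun i => ?_, fun i b => ?_⟩
    · refine (fun key => key _ rfl) (?_ : ∀ O : (pullback f g).Opens,
        O = Fin.lastCases (m₂ ⁻¹ᵁ W₂) (fun i => m₁ ⁻¹ᵁ W₁ i) i → IsFinite (O.ι ≫ pullback.snd f g))
      induction i using Fin.lastCases with
      | last =>
        intro O hO
        rw [Fin.lastCases_last] at hO
        subst hO
        haveI := hfin₂
        exact isFinite_preimage (IsPullback.of_hasPullback f g₂) (IsPullback.of_hasPullback f g)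
          (pullback.snd g₁ g₂) pullback.condition.symm W₂
      | cast i =>
        intro O hO
        rw [Fin.lastCases_castSucc] at hO
        subst hO
        haveI := hfin₁ i
        exact isFinite_preimage (IsPullback.of_hasPullback f g₁) (IsPullback.of_hasPullback f g)
          (pullback.fst g₁ g₂) rfl (W₁ i)
    · induction i using Fin.lastCases with
      | last =>
        simp only [Fin.lastCases_last]
        rw [inLift_preimage_iff, pullback.lift_snd]
        exact huniq₂ b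
      | cast i =>
        simp only [Fin.lastCases_castSucc]
        rw [inLift_preimage_iff, pullback.lift_fst]
        exact huniq₁ i b

/-- Splitting of a finite family of geometric points. -/
theorem exists_split {X S : Scheme.{u}} (f : X ⟶ S) [LocallyOfFiniteType f] {Ω : Type u} [Field Ω]
    [IsAlgClosed Ω] (s : Spec (CommRingCat.of Ω) ⟶ S) {L : Type*} [Finite L]
    (a : L → (Spec (CommRingCat.of Ω) ⟶ X)) (ha : ∀ i, a i ≫ f = s)
    (hq : ∀ i, f.QuasiFiniteAt (pt (a i))) :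
    ∃ (U : Scheme.{u}) (g : U ⟶ S) (ū : Spec (CommRingCat.of Ω) ⟶ U)
      (W : L → (pullback f g).Opens), Etale g ∧ ū ≫ g = s ∧
      (∀ i, IsFinite ((W i).ι ≫ pullback.snd f g)) ∧
      ∀ i b, InLift (IsPullback.of_hasPullback f g) (W i) ū b ↔ b = a i := by
  let e := Finite.equivFin L
  obtain ⟨U, g, ū, W, hg, hū, hfin, huniq⟩ :=
    exists_split_fin f s (Nat.card L) (fun i => a (e.symm i)) (fun i => ha _) (fun i => hq _)
  exact ⟨U, g, ū, fun i => W (e i), hg, hū, fun i => hfin _, fun i b => by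
    rw [huniq, e.symm_apply_apply]⟩

end Groth.Agent.Weight
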