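import Mathlib.RingTheory.LocalRing.Length
import Mathlib.RingTheory.Unramified.LocalRing
import Mathlib.RingTheory.QuasiFinite.Basic
import Mathlib.RingTheory.Artinian.Module
import Mathlib.FieldTheory.PurelyInseparable.Tower
import Mathlib.AlgebraicGeometry.Morphisms.Etale
import Mathlib.AlgebraicGeometry.Morphisms.QuasiFinite
import Mathlib.AlgebraicGeometry.ResidueField
import Groth.Agent.Lib.Weight4.GeomSum

/-!
# The multiplicity `length * inseparable degree` of a point in its fibre
-/

universe u

open AlgebraicGeometry CategoryTheory IsLocalRing TensorProduct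

noncomputable section

namespace Groth.Agent.Weight

section Ring

variable {A B C : Type u} [CommRing A] [CommRing B] [CommRing C]
  [IsLocalRing A] [IsLocalRing B] [IsLocalRing C]

/-- The length of the closed fibre of a homomorphism of local rings. -/
def lenFib (φ : A →+* B) : ℕ∞ :=
  Module.length B (B ⧸ (maximalIdeal A).map φ)

theorem lenFib_eq_one_of_map_eq (φ : A →+* B) (h : (maximalIdeal A).map φ = maximalIdeal B) :
    lenFib φ = 1 := by
  unfold lenFib
  rw [h, Module.length_eq_one_iff, isSimpleModule_iff_isCoatom, ← Ideal.isMaximal_def]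
  infer_instance

theorem lenFib_comp_of_map_eq (φ : A →+* B) (ψ : B →+* C)
    (h : (maximalIdeal A).map φ = maximalIdeal B) : lenFib (ψ.comp φ) = lenFib ψ := by
  unfold lenFib
  rw [← Ideal.map_map, h]

theorem lenFib_comp (φ : A →+* B) (ψ : B →+* C) [IsLocalHom ψ] (hψ : ψ.Flat) :
    lenFib (ψ.comp φ) = lenFib φ * lenFib ψ := by
  algebraize [ψ]
  have : IsLocalHom (algebraMap B C) := ‹_›
  unfold lenFib
  rw [← Ideal.map_map]
  exact (Algebra.TensorProduct.quotIdealMapEquivTensorQuot C
    ((maximalIdeal A).map φ)).toLinearEquiv.length_eq.trans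
      (IsLocalRing.length_baseChange B C (B ⧸ (maximalIdeal A).map φ))

theorem map_maximalIdeal_eq (φ : A →+* B) [IsLocalHom φ] (hu : φ.FormallyUnramified)
    (he : φ.EssFiniteType) : (maximalIdeal A).map φ = maximalIdeal B := by
  algebraize [φ]
  have : IsLocalHom (algebraMap A B) := ‹_›
  exact Algebra.FormallyUnramified.map_maximalIdeal

/-- The length of the closed fibre over the base is length times residue degree. -/
theorem length_quotient_eq [Algebra A B] [IsLocalHom (algebraMap A B)]
    [Algebra.QuasiFinite A B] :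
    Module.length A (B ⧸ (maximalIdeal A).map (algebraMap A B)) =
      lenFib (algebraMap A B) * Module.finrank (ResidueField A) (ResidueField B) := by
  have : Algebra.QuasiFinite A (ResidueField B) :=
    Algebra.QuasiFinite.of_surjective_algHom
      (IsScalarTower.toAlgHom A B (ResidueField B)) residue_surjective
  have : Algebra.QuasiFinite (ResidueField A) (ResidueField B) :=
    Algebra.QuasiFinite.of_restrictScalars A _ _
  have : Module.Finite (ResidueField A) (ResidueField B) := Module.Finite.of_quasiFinite
  rw [IsLocalRing.length_restrictScalars A B, Module.length_eq_finrank]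
  rfl

theorem lenFib_ne_top [Algebra A B] [IsLocalHom (algebraMap A B)] [Algebra.QuasiFinite A B] :
    lenFib (algebraMap A B) ≠ ⊤ := by
  let I := (maximalIdeal A).map (algebraMap A B)
  have : Algebra.QuasiFinite A (B ⧸ I) :=
    Algebra.QuasiFinite.of_surjective_algHom (Ideal.Quotient.mkₐ A I) Ideal.Quotient.mk_surjective
  have : Algebra.QuasiFinite (A ⧸ maximalIdeal A) (B ⧸ I) :=
    Algebra.QuasiFinite.of_restrictScalars A _ _
  letI : Field (A ⧸ maximalIdeal A) := Ideal.Quotient.field _
  have : Module.Finite (A ⧸ maximalIdeal A) (B ⧸ I) := Module.Finite.of_quasiFinite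
  have : IsArtinianRing (B ⧸ I) := isArtinian_of_tower (A ⧸ maximalIdeal A) inferInstance
  show Module.length B (B ⧸ I) ≠ ⊤
  rw [Module.length_eq_of_surjective (R := B ⧸ I) Ideal.Quotient.mk_surjective]
  exact Module.length_ne_top

theorem lenFib_pos (φ : A →+* B) [IsLocalHom φ] : 0 < lenFib φ := by
  unfold lenFib
  rw [Module.length_pos_iff, Ideal.Quotient.nontrivial_iff]
  exact (map_maximalIdeal_lt_top φ).ne

end Ring

section Scheme

variable {X Y Z : Scheme.{u}}

/-- Length of the local ring of the fibre times the inseparable degree of the residue extension. -/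
def wt (f : X ⟶ Y) (x : X) : ℤ :=
  (Module.length ↑(X.presheaf.stalk x) (↑(X.presheaf.stalk x) ⧸
    Ideal.map (f.stalkMap x).hom (IsLocalRing.maximalIdeal ↑(Y.presheaf.stalk (f x))))).toNat *
  (letI := (f.residueFieldMap x).hom.toAlgebra
   (Field.finInsepDegree (Y.residueField (f x)) (X.residueField x) : ℤ))

/-- The inseparable degree of the residue extension. -/
def insDeg (f : X ⟶ Y) (x : X) : ℕ :=
  letI := (f.residueFieldMap x).hom.toAlgebra
  Field.finInsepDegree (Y.residueField (f x)) (X.residueField x)

theorem wt_eq (f : X ⟶ Y) (x : X) :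
    wt f x = ((lenFib (f.stalkMap x).hom).toNat * insDeg f x : ℕ) := by
  simp [wt, lenFib, insDeg]

theorem isSeparable_residueFieldMap (e : X ⟶ Y) [FormallyUnramified e] [LocallyOfFiniteType e]
    (x : X) :
    letI := (e.residueFieldMap x).hom.toAlgebra
    Algebra.IsSeparable (Y.residueField (e x)) (X.residueField x) := by
  infer_instance

theorem isAlgebraic_residueFieldMap (f : X ⟶ Y) (x : X) (h : f.QuasiFiniteAt x) :
    letI := (f.residueFieldMap x).hom.toAlgebra
    Algebra.IsAlgebraic (Y.residueField (f x)) (X.residueField x) := by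
  letI := (f.residueFieldMap x).hom.toAlgebra
  haveI : Module.Finite (Y.residueField (f x)) (X.residueField x) :=
    RingHom.finite_algebraMap.mp (finite_residueFieldMap f x h)
  exact Algebra.IsAlgebraic.of_finite _ _

theorem lenFib_stalkMap_comp (f : X ⟶ Y) (g : Y ⟶ Z) (x : X) :
    lenFib ((f ≫ g).stalkMap x).hom =
      lenFib ((f.stalkMap x).hom.comp (g.stalkMap (f x)).hom) := by
  rw [Scheme.Hom.stalkMap_comp]
  rfl

theorem insDeg_comp (f : X ⟶ Y) (g : Y ⟶ Z) (x : X)
    (h : letI := (g.residueFieldMap (f x)).hom.toAlgebra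
      Algebra.IsAlgebraic (Z.residueField (g (f x))) (Y.residueField (f x))) :
    insDeg (f ≫ g) x = insDeg g (f x) * insDeg f x := by
  letI := (g.residueFieldMap (f x)).hom.toAlgebra
  letI := (f.residueFieldMap x).hom.toAlgebra
  letI : Algebra (Z.residueField (g (f x))) (X.residueField x) :=
    ((f ≫ g).residueFieldMap x).hom.toAlgebra
  have : IsScalarTower (Z.residueField (g (f x))) (Y.residueField (f x)) (X.residueField x) :=
    IsScalarTower.of_algebraMap_eq fun r => by
      show (f ≫ g).residueFieldMap x r = f.residueFieldMap x (g.residueFieldMap (f x) r)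
      rw [Scheme.residueFieldMap_comp]
      rfl
  exact (Field.finInsepDegree_mul_finInsepDegree_of_isAlgebraic (Z.residueField (g (f x)))
    (Y.residueField (f x)) (X.residueField x)).symm

theorem insDeg_eq_one (e : X ⟶ Y) [FormallyUnramified e] [LocallyOfFiniteType e] (x : X) :
    insDeg e x = 1 :=
  letI := (e.residueFieldMap x).hom.toAlgebra
  (isSeparable_iff_finInsepDegree_eq_one _ _).1 (isSeparable_residueFieldMap e x)

theorem map_maximalIdeal_stalkMap (e : X ⟶ Y) [FormallyUnramified e] [LocallyOfFiniteType e]
    (x : X) : (maximalIdeal (Y.presheaf.stalk (e x))).map (e.stalkMap x).hom =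
      maximalIdeal (X.presheaf.stalk x) :=
  map_maximalIdeal_eq _ (FormallyUnramified.stalkMap e x) (LocallyOfFiniteType.stalkMap e x)

/-- The multiplicity only depends on the fibre up to étale maps of the source. -/
theorem wt_comp_left (e : X ⟶ Y) [Etale e] (f : Y ⟶ Z) (x : X) (h : f.QuasiFiniteAt (e x)) :
    wt (e ≫ f) x = wt f (e x) := by
  rw [wt_eq, wt_eq, lenFib_stalkMap_comp, lenFib_comp _ _ (Flat.stalkMap e x),
    lenFib_eq_one_of_map_eq _ (map_maximalIdeal_stalkMap e x), mul_one,
    insDeg_comp e f x (isAlgebraic_residueFieldMap f _ h), insDeg_eq_one e x, mul_one]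

/-- The multiplicity is invariant under unramified maps of the target. -/
theorem wt_comp_right (s : X ⟶ Y) (g : Y ⟶ Z) [FormallyUnramified g] [LocallyOfFiniteType g] (x : X) :
    wt (s ≫ g) x = wt s x := by
  have halg := letI := (g.residueFieldMap (s x)).hom.toAlgebra
    have := isSeparable_residueFieldMap g (s x)
    (Algebra.IsSeparable.isAlgebraic (Z.residueField (g (s x))) (Y.residueField (s x)))
  rw [wt_eq, wt_eq, lenFib_stalkMap_comp, lenFib_comp_of_map_eq _ _ (map_maximalIdeal_stalkMap g _),
    insDeg_comp s g x halg, insDeg_eq_one g, one_mul]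

/-- Invariance in a commutative square with étale horizontal maps. -/
theorem wt_of_commSq {X' Y' : Scheme.{u}} {f : X ⟶ Y} {f' : X' ⟶ Y'} {j : X' ⟶ X} {g : Y' ⟶ Y}
    [Etale j] [Etale g] (h : f' ≫ g = j ≫ f) [LocallyQuasiFinite f] [LocallyOfFiniteType f] (x : X') :
    wt f' x = wt f (j x) := by
  rw [← wt_comp_right f' g x, h, wt_comp_left j f x (f.quasiFiniteAt _)]

theorem wt_pos (f : X ⟶ Y) (x : X) (h : f.QuasiFiniteAt x) : 0 < wt f x := by
  rw [wt_eq]
  norm_cast
  refine Nat.mul_pos (ENat.toNat_pos (lenFib_pos _).ne' ?_) ?_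
  · letI := (f.stalkMap x).hom.toAlgebra
    have : IsLocalHom (algebraMap (Y.presheaf.stalk (f x)) (X.presheaf.stalk x)) :=
      inferInstanceAs (IsLocalHom (f.stalkMap x).hom)
    have : Algebra.QuasiFinite (Y.presheaf.stalk (f x)) (X.presheaf.stalk x) := h
    exact lenFib_ne_top
  · unfold insDeg
    letI := (f.residueFieldMap x).hom.toAlgebra
    haveI : Module.Finite (Y.residueField (f x)) (X.residueField x) :=
      RingHom.finite_algebraMap.mp (finite_residueFieldMap f x h)
    refine Nat.pos_of_ne_zero fun h0 => ?_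
    have := Field.finSepDegree_mul_finInsepDegree (Y.residueField (f x)) (X.residueField x)
    rw [h0, mul_zero] at this
    exact Module.finrank_pos.ne this

end Scheme

end Groth.Agent.Weight
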