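import Groth.Agent.Lib.Weight4.Points

/-!
# Clopen splitting of quasi-finite points of a separated morphism
-/

universe u

open AlgebraicGeometry CategoryTheory Limits IsLocalRing

namespace Groth.Agent.Weight

variable {X S : Scheme.{u}}

theorem isClosed_of_isFinite {U : Scheme.{u}} {g : U ⟶ S} {f : X ⟶ S} [IsSeparated f]
    (W : (pullback f g).Opens) [IsFinite (W.ι ≫ pullback.snd f g)] :
    IsClosed (W : Set ↥(pullback f g)) := by
  haveI : IsFinite W.ι := IsFinite.of_comp W.ι (pullback.snd f g)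
  rw [← Scheme.Opens.range_ι]
  exact W.ι.isClosedMap.isClosed_range

/-- For separated morphisms the pieces can be made disjoint. -/
theorem exists_disjoint_shrink (f : X ⟶ S) [IsSeparated f] [LocallyOfFiniteType f]
    {Ω : Type u} [Field Ω] [IsAlgClosed Ω] {L : Type*} [Finite L] (a : L → (Spec (CommRingCat.of Ω) ⟶ X))
    (hainj : Function.Injective a) {U : Scheme.{u}} (g : U ⟶ S) [Etale g]
    (ū : Spec (CommRingCat.of Ω) ⟶ U) (W : L → (pullback f g).Opens)
    (hfin : ∀ l, IsFinite ((W l).ι ≫ pullback.snd f g))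
    (huniq : ∀ l b, InLift (IsPullback.of_hasPullback f g) (W l) ū b ↔ b = a l) :
    ∃ (U' : Scheme.{u}) (g' : U' ⟶ S) (τ : Spec (CommRingCat.of Ω) ⟶ U')
      (W' : L → (pullback f g').Opens), Etale g' ∧ τ ≫ g' = ū ≫ g ∧
      (∀ l, IsFinite ((W' l).ι ≫ pullback.snd f g')) ∧
      (∀ l b, InLift (IsPullback.of_hasPullback f g') (W' l) τ b ↔ b = a l) ∧
      (∀ l, IsClopen ((W' l : Set ↥(pullback f g')))) ∧
      ∀ l l', ((W' l : Set ↥(pullback f g')) ∩ (W' l')).Nonempty → l = l' := by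
  classical
  haveI := hfin
  let bad : {p : L × L // p.1 ≠ p.2} → Set U := fun p =>
    pullback.snd f g '' ((W p.1.1 : Set ↥(pullback f g)) \
      (⟨_, (isClosed_of_isFinite (W p.1.2)).isOpen_compl⟩ : (pullback f g).Opens))
  let N : U.Opens := ⟨(⋃ p, bad p)ᶜ,
    (isClosed_iUnion_of_finite fun p => isClosed_image_diff (pullback.snd f g) (W _) _).isOpen_compl⟩
  have hN : pt ū ∈ N := by
    rintro hb
    obtain ⟨⟨⟨l, l'⟩, hne⟩, z, ⟨hz, hz'⟩, hzu⟩ := Set.mem_iUnion.1 hb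
    obtain ⟨b, hb, hbz⟩ := exists_inLift_of_mem (IsPullback.of_hasPullback f g) (W l) ū z hz hzu
    have hb' : InLift (IsPullback.of_hasPullback f g) (W l') ū b :=
      ⟨hb.1, by rw [hbz hb.1]; exact not_not.1 hz'⟩
    exact hne (hainj (((huniq _ b).1 hb).symm.trans ((huniq _ b).1 hb')))
  let g' := N.ι ≫ g
  let bc := bcMap (IsPullback.of_hasPullback f g) (IsPullback.of_hasPullback f g') N.ι rfl
  haveI : ∀ l, IsFinite ((bc ⁻¹ᵁ W l).ι ≫ pullback.snd f g') := fun l =>
    isFinite_preimage (IsPullback.of_hasPullback f g) _ N.ι rfl (W l)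
  refine ⟨N, g', liftOpen N ū hN, fun l => bc ⁻¹ᵁ W l, inferInstance,
    by rw [← Category.assoc, liftOpen_ι], fun l => inferInstance,
    fun l b => by rw [inLift_preimage_iff, liftOpen_ι]; exact huniq l b,
    fun l => ⟨isClosed_of_isFinite _, (bc ⁻¹ᵁ W l).2⟩, fun l l' ⟨z, hz, hz'⟩ => ?_⟩
  by_contra hne
  have h1 : pullback.snd f g (bc z) ∈ N := by
    rw [← Scheme.Hom.comp_apply, bcMap_snd, Scheme.Hom.comp_apply]
    exact ((pullback.snd f g') z).2
  exact h1 (Set.mem_iUnion.2 ⟨⟨(l, l'), hne⟩, bc z, ⟨hz, fun h => h hz'⟩, rfl⟩)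

end Groth.Agent.Weight
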