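import Groth.Agent.Lib.Weight4.Nbhd
import Groth.Agent.Lib.Weight4.PointsSep
import Groth.Agent.Lib.Weight4.Fibre

/-!
# Elementary étale neighbourhoods splitting off finitely many quasi-finite points
-/

universe u

open AlgebraicGeometry CategoryTheory Limits IsLocalRing

namespace Groth.Agent.Weight

variable {X S : Scheme.{u}}

theorem residueFieldMap_surjective_of_section {T : Scheme.{u}} (g : T ⟶ S) (u : T) (s : S) (hs : g u = s)
    (σ : Spec (S.residueField s) ⟶ T) (hσ : σ ≫ g = S.fromSpecResidueField s)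
    (hu : σ (closedPoint (S.residueField s)) = u) : Function.Surjective (g.residueFieldMap u) := by
  subst hs
  obtain ⟨ε, hε⟩ := exists_eq_fieldPt (Ω := S.residueField (g u)) σ u hu
  rw [← hε, fieldPt, Category.assoc, ← Scheme.Hom.SpecMap_residueFieldMap_fromSpecResidueField,
    ← Category.assoc, ← Spec.map_comp] at hσ
  have h1 : g.residueFieldMap u ≫ ε = 𝟙 _ := Spec.map_injective
    ((cancel_mono (S.fromSpecResidueField (g u))).1 (hσ.trans (by rw [Spec.map_id]; exact (Category.id_comp _).symm)))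
  exact fun a => ⟨ε a, ε.hom.injective (congr($(h1).hom (ε a)))⟩

theorem exists_section_of_surjective {T : Scheme.{u}} (g : T ⟶ S) (u : T) (s : S) (hs : g u = s)
    (h : Function.Surjective (g.residueFieldMap u)) :
    ∃ σ : Spec (S.residueField s) ⟶ T, σ ≫ g = S.fromSpecResidueField s ∧
      σ (closedPoint (S.residueField s)) = u := by
  subst hs
  haveI : IsIso (g.residueFieldMap u) :=
    (ConcreteCategory.isIso_iff_bijective _).2 ⟨(g.residueFieldMap u).hom.injective, h⟩
  refine ⟨Spec.map (inv (g.residueFieldMap u)) ≫ T.fromSpecResidueField u, ?_, ?_⟩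
  · rw [Category.assoc, ← Scheme.Hom.SpecMap_residueFieldMap_fromSpecResidueField,
      ← Spec.map_comp_assoc, IsIso.hom_inv_id, Spec.map_id, Category.id_comp]
  · rw [Scheme.Hom.comp_apply]
    exact T.fromSpecResidueField_apply u _

/-- The union of two clopens finite over the base. -/
theorem isFinite_sup_of_isClosed {P U : Scheme.{u}} (π : P ⟶ U) [IsSeparated π] (A B : P.Opens)
    [IsFinite (A.ι ≫ π)] [IsFinite (B.ι ≫ π)] (hA : IsClosed (A : Set P)) :
    IsFinite ((A ⊔ B).ι ≫ π) := by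
  let B' : P.Opens := B ⊓ ⟨(A : Set P)ᶜ, hA.isOpen_compl⟩
  have heq : A ⊔ B = A ⊔ B' := by
    refine TopologicalSpace.Opens.ext (Set.ext fun z => ?_)
    show z ∈ (A : Set P) ∨ z ∈ (B : Set P) ↔ z ∈ (A : Set P) ∨ (z ∈ (B : Set P) ∧ z ∉ (A : Set P))
    tauto
  let i := P.homOfLE (inf_le_left : B' ≤ B)
  haveI : IsClosedImmersion i := by
    refine IsClosedImmersion.of_isPreimmersion i ?_
    have hr : Set.range i = B.ι ⁻¹' (A : Set P)ᶜ := by
      ext z
      constructor
      · rintro ⟨b, rfl⟩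
        show B.ι (i b) ∉ A
        rw [← Scheme.Hom.comp_apply, Scheme.homOfLE_ι]
        exact b.2.2
      · intro hz
        exact ⟨⟨z.1, z.2, hz⟩, B.ι.isOpenEmbedding.injective (by
          rw [← Scheme.Hom.comp_apply, Scheme.homOfLE_ι]; rfl)⟩
    rw [hr]
    exact (A.2.isClosed_compl).preimage B.ι.continuous
  haveI : IsFinite (B'.ι ≫ π) := by
    rw [← Scheme.homOfLE_ι P (inf_le_left : B' ≤ B), Category.assoc]
    infer_instance
  rw [heq]
  refine isFinite_sup π A B' (disjoint_iff.2 ?_)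
  refine TopologicalSpace.Opens.ext (Set.ext fun z => ?_)
  show (z ∈ (A : Set P) ∧ (z ∈ (B : Set P) ∧ z ∉ (A : Set P))) ↔ z ∈ (∅ : Set P)
  simp only [Set.mem_empty_iff_false, iff_false]
  tauto

variable (f : X ⟶ S) [LocallyOfFiniteType f] [IsSeparated f]

theorem exists_elementary_clopen (s : S) : ∀ (n : ℕ) (x : Fin n → X), (∀ i, f (x i) = s) →
    (∀ i, f.QuasiFiniteAt (x i)) →
    ∃ (T : Scheme.{u}) (g : T ⟶ S) (σ : Spec (S.residueField s) ⟶ T) (V : (pullback f g).Opens),
      Etale g ∧ σ ≫ g = S.fromSpecResidueField s ∧ IsClosed (V : Set ↥(pullback f g)) ∧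
      IsFinite (V.ι ≫ pullback.snd f g) ∧
      ∀ w, pullback.snd f g w = σ (closedPoint (S.residueField s)) →
        (∃ i, pullback.fst f g w = x i) → w ∈ V := by
  intro n
  induction n with
  | zero =>
    intro x _ _
    haveI : IsEmpty ((⊥ : (pullback f (𝟙 S)).Opens) : Scheme.{u}) := ⟨fun z => z.2⟩
    exact ⟨S, 𝟙 S, S.fromSpecResidueField s, ⊥, inferInstance, Category.comp_id _, isClosed_empty,
      inferInstance, fun w _ ⟨i, _⟩ => i.elim0⟩
  | succ n ih =>
    intro x hs hx
    obtain ⟨T₁, g₁, σ₁, V₁, hg₁, hσ₁, hV₁c, hV₁, hV₁x⟩ :=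
      ih (fun i => x i.castSucc) (fun i => hs _) (fun i => hx _)
    obtain ⟨T₂, g₂, u₂, hg₂, hu₂, hres₂, V₂, v₂, hV₂, hv₂V, hv₂x, hv₂u, -⟩ :=
      exists_elementary_piece f (x (Fin.last n)) (hx _)
    obtain ⟨σ₂, hσ₂, hσ₂u⟩ := exists_section_of_surjective g₂ u₂ s (hu₂.trans (hs _)) hres₂
    haveI := hg₁
    haveI := hg₂
    haveI := hV₁
    haveI := hV₂
    let g := pullback.fst g₁ g₂ ≫ g₁
    let σ := pullback.lift σ₁ σ₂ (hσ₁.trans hσ₂.symm)
    let m₁ := bcMap (IsPullback.of_hasPullback f g₁) (IsPullback.of_hasPullback f g) (pullback.fst g₁ g₂) rfl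
    let m₂ := bcMap (IsPullback.of_hasPullback f g₂) (IsPullback.of_hasPullback f g) (pullback.snd g₁ g₂)
      pullback.condition.symm
    haveI : IsFinite ((m₁ ⁻¹ᵁ V₁).ι ≫ pullback.snd f g) :=
      isFinite_preimage (IsPullback.of_hasPullback f g₁) _ _ rfl V₁
    haveI : IsFinite ((m₂ ⁻¹ᵁ V₂).ι ≫ pullback.snd f g) :=
      isFinite_preimage (IsPullback.of_hasPullback f g₂) _ _ pullback.condition.symm V₂
    refine ⟨pullback g₁ g₂, g, σ, m₁ ⁻¹ᵁ V₁ ⊔ m₂ ⁻¹ᵁ V₂, inferInstance,
      by rw [pullback.lift_fst_assoc, hσ₁], ?_,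
      isFinite_sup_of_isClosed (pullback.snd f g) _ _ (hV₁c.preimage m₁.continuous), ?_⟩
    · exact (hV₁c.preimage m₁.continuous).union (isClosed_of_isFinite (m₂ ⁻¹ᵁ V₂))
    · rintro w hw ⟨i, hi⟩
      have h1 : pullback.fst f g₁ (m₁ w) = pullback.fst f g w := by
        rw [← Scheme.Hom.comp_apply, bcMap_fst]
      have h1' : pullback.snd f g₁ (m₁ w) = σ₁ (closedPoint (S.residueField s)) := by
        rw [← Scheme.Hom.comp_apply, bcMap_snd, Scheme.Hom.comp_apply, hw, ← Scheme.Hom.comp_apply,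
          pullback.lift_fst]
      have h2 : pullback.fst f g₂ (m₂ w) = pullback.fst f g w := by
        rw [← Scheme.Hom.comp_apply, bcMap_fst]
      have h2' : pullback.snd f g₂ (m₂ w) = u₂ := by
        rw [← Scheme.Hom.comp_apply, bcMap_snd, Scheme.Hom.comp_apply, hw, ← Scheme.Hom.comp_apply,
          pullback.lift_snd, hσ₂u]
      induction i using Fin.lastCases with
      | last =>
        refine Or.inr (show m₂ w ∈ V₂ from ?_)
        rw [(pullback_residue_trivial f g₂ v₂ (m₂ w) (by rw [hv₂u]; exact hres₂)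
          (by rw [h2, hi, hv₂x]) (by rw [h2', hv₂u])).1]
        exact hv₂V
      | cast j => exact Or.inl (hV₁x (m₁ w) h1' ⟨j, by rw [h1, hi]⟩)

/-- An elementary neighbourhood splitting off a finite clopen with no isolated points outside. -/
theorem exists_no_isolated_remainder (s : S)
    (hfin : {x : ↥(f.fiber s) | IsOpen ({x} : Set ↥(f.fiber s))}.Finite) :
    ∃ (U : Scheme.{u}) (g : U ⟶ S) (u : U), Etale g ∧ g u = s ∧ Function.Surjective (g.residueFieldMap u) ∧
      ∃ V : (pullback f g).Opens, IsClopen (V : Set ↥(pullback f g)) ∧ IsFinite (V.ι ≫ pullback.snd f g) ∧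
        ∀ w : ↥((pullback.snd f g).fiber u), (pullback.snd f g).fiberι u w ∉ V →
          ¬ IsOpen ({w} : Set ↥((pullback.snd f g).fiber u)) := by
  classical
  haveI := hfin.to_subtype
  let I := {x : ↥(f.fiber s) | IsOpen ({x} : Set ↥(f.fiber s))}
  let e := Finite.equivFin I
  have hxs : ∀ z : ↥(f.fiber s), f (f.fiberι s z) = s := fun z =>
    (Scheme.Hom.range_fiberι f s).le ⟨z, rfl⟩
  obtain ⟨T, g, σ, V, hg, hσ, hVc, hVf, hV⟩ := exists_elementary_clopen f s (Nat.card I)
    (fun i => f.fiberι s (e.symm i).1) (fun i => hxs _)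
    (fun i => Descend.quasiFiniteAt_of_isOpen_fiber f _ rfl (e.symm i).2)
  let u := σ (closedPoint (S.residueField s))
  have hgu : g u = s := by
    show g (σ _) = s
    rw [← Scheme.Hom.comp_apply, hσ]
    exact S.fromSpecResidueField_apply s _
  refine ⟨T, g, u, hg, hgu, residueFieldMap_surjective_of_section g u s hgu σ hσ rfl, V, ⟨hVc, V.2⟩, hVf,
    fun w hw hopen => hw ?_⟩
  let z := (pullback.snd f g).fiberι u w
  have hzu : pullback.snd f g z = u := (Scheme.Hom.range_fiberι (pullback.snd f g) u).le ⟨w, rfl⟩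
  have hq : f.QuasiFiniteAt (pullback.fst f g z) :=
    Descend.quasiFiniteAt_of_isPullback (IsPullback.of_hasPullback f g)
      (Descend.quasiFiniteAt_of_isOpen_fiber (pullback.snd f g) w rfl hopen)
  have hzs : f (pullback.fst f g z) = s := by
    rw [← Scheme.Hom.comp_apply, pullback.condition, Scheme.Hom.comp_apply, hzu, hgu]
  refine hV z hzu ?_
  generalize pullback.fst f g z = y at hq hzs
  subst hzs
  exact ⟨e ⟨f.asFiber y, Scheme.Hom.quasiFiniteAt_iff_isOpen_singleton_asFiber.1 hq⟩, by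
    rw [e.symm_apply_apply]; exact (Scheme.Hom.fiberι_asFiber f y).symm⟩

end Groth.Agent.Weight
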