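import Groth.Agent.Lib.Weight4.GeomSum
import Mathlib.AlgebraicGeometry.ZariskisMainTheorem
import Mathlib.AlgebraicGeometry.Morphisms.Etale
import Mathlib.RingTheory.Etale.QuasiFinite

/-!
# Residually trivial étale neighbourhoods splitting off a quasi-finite point
-/

universe u

open AlgebraicGeometry CategoryTheory Limits IsLocalRing TensorProduct

namespace Groth.Agent.Weight

variable {X S : Scheme.{u}}

/-- Over a residually trivial point of the base change there is one point above each point of the fibre,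
with the same residue field. -/
theorem pullback_residue_trivial {T : Scheme.{u}} (f : X ⟶ S) (g : T ⟶ S) (v v' : ↥(pullback f g))
    (hres : Function.Surjective (g.residueFieldMap (pullback.snd f g v)))
    (h1 : pullback.fst f g v' = pullback.fst f g v) (h2 : pullback.snd f g v' = pullback.snd f g v) :
    v' = v ∧ Function.Surjective ((pullback.fst f g).residueFieldMap v) := by
  obtain ⟨x, hx⟩ : ∃ x, pullback.fst f g v = x := ⟨_, rfl⟩
  obtain ⟨u, hu⟩ : ∃ u, pullback.snd f g v = u := ⟨_, rfl⟩
  rw [hu] at hres h2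
  haveI : IsIso (g.residueFieldMap u) :=
    (ConcreteCategory.isIso_iff_bijective _).2 ⟨(g.residueFieldMap u).hom.injective, hres⟩
  let m := T.fromSpecResidueField u ≫ g
  have hm : m = Spec.map (g.residueFieldMap u) ≫ S.fromSpecResidueField (g u) :=
    (Scheme.Hom.SpecMap_residueFieldMap_fromSpecResidueField g u).symm
  haveI : Mono m := by rw [hm]; infer_instance
  have hgu : g u = f x := by
    rw [← hx, ← hu, ← Scheme.Hom.comp_apply, ← Scheme.Hom.comp_apply, pullback.condition]
  obtain ⟨e, he⟩ := exists_eq_fieldPt (Ω := X.residueField x) (X.fromSpecResidueField x ≫ f) (g u) (by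
    show f (X.fromSpecResidueField x (closedPoint (X.residueField x))) = g u
    rw [X.fromSpecResidueField_apply, hgu])
  let c : Spec (X.residueField x) ⟶ pullback f g :=
    pullback.lift (X.fromSpecResidueField x) (Spec.map (inv (g.residueFieldMap u) ≫ e) ≫ T.fromSpecResidueField u) (by
      rw [← he, Category.assoc]
      show fieldPt (g u) e = Spec.map (inv (g.residueFieldMap u) ≫ e) ≫ m
      rw [hm, ← Spec.map_comp_assoc, IsIso.hom_inv_id_assoc])
  have key : ∀ w, ∀ hwx : pullback.fst f g w = x, pullback.snd f g w = u →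
      ∃ r : X.residueField x ⟶ (pullback f g).residueField w,
        Spec.map r ≫ c = (pullback f g).fromSpecResidueField w ∧
        (X.residueFieldCongr hwx).hom ≫ r = (pullback.fst f g).residueFieldMap w := by
    intro w hwx hwu
    refine ⟨(X.residueFieldCongr hwx).inv ≫ (pullback.fst f g).residueFieldMap w, ?_, by rw [Iso.hom_inv_id_assoc]⟩
    have hfst : (Spec.map ((X.residueFieldCongr hwx).inv ≫ (pullback.fst f g).residueFieldMap w) ≫ c) ≫
        pullback.fst f g = (pullback f g).fromSpecResidueField w ≫ pullback.fst f g := by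
      rw [Category.assoc, pullback.lift_fst, Spec.map_comp, Category.assoc]
      subst hwx
      rw [show Spec.map (X.residueFieldCongr (rfl : pullback.fst f g w = _)).inv = 𝟙 _ by
        simp, Category.id_comp]
      exact Scheme.Hom.SpecMap_residueFieldMap_fromSpecResidueField _ _
    apply pullback.hom_ext hfst
    obtain ⟨ψ, hψ⟩ := exists_eq_fieldPt (Ω := (pullback f g).residueField w)
      ((pullback f g).fromSpecResidueField w ≫ pullback.snd f g) u (by
        show pullback.snd f g ((pullback f g).fromSpecResidueField w (closedPoint _)) = u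
        rw [(pullback f g).fromSpecResidueField_apply, hwu])
    rw [← hψ, Category.assoc]
    simp only [c, pullback.lift_snd, fieldPt, ← Spec.map_comp_assoc]
    refine congrArg (· ≫ T.fromSpecResidueField u) ((cancel_mono m).1 ?_)
    calc _ = (Spec.map ((X.residueFieldCongr hwx).inv ≫ (pullback.fst f g).residueFieldMap w) ≫ c) ≫
          pullback.snd f g ≫ g := by
          simp only [c, m, Category.assoc, pullback.lift_snd_assoc, Spec.map_comp]
      _ = ((pullback f g).fromSpecResidueField w ≫ pullback.fst f g) ≫ f := by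
          rw [← pullback.condition, ← Category.assoc, hfst]
      _ = _ := by
          rw [Category.assoc, pullback.condition, ← Category.assoc, ← hψ, fieldPt, Category.assoc]
  have hpt : ∀ w, pullback.fst f g w = x → pullback.snd f g w = u → w = c (closedPoint (X.residueField x)) := by
    intro w hwx hwu
    obtain ⟨r, hr, -⟩ := key w hwx hwu
    have := congrArg (fun q : Spec ((pullback f g).residueField w) ⟶ pullback f g =>
      q (closedPoint ((pullback f g).residueField w))) hr
    simp only [(pullback f g).fromSpecResidueField_apply, Scheme.Hom.comp_apply] at this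
    rw [← this]
    congr 1
    exact Subsingleton.elim _ _
  refine ⟨(hpt v' (h1.trans hx) h2).trans (hpt v hx hu).symm, ?_⟩
  obtain ⟨r, hr, hr'⟩ := key v hx hu
  obtain ⟨ε, hε⟩ := exists_eq_fieldPt (Ω := X.residueField x) c v (hpt v hx hu).symm
  rw [← hε, fieldPt, ← Spec.map_comp_assoc] at hr
  have hid : ε ≫ r = 𝟙 _ := Spec.map_injective ((cancel_mono ((pullback f g).fromSpecResidueField v)).1
    (hr.trans (by rw [Spec.map_id, Category.id_comp])))
  intro a
  refine ⟨(X.residueFieldCongr hx).inv (ε a), ?_⟩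
  have h5 : (X.residueFieldCongr hx).inv ≫ (pullback.fst f g).residueFieldMap v = r := by
    rw [← hr', Iso.inv_hom_id_assoc]
  rw [← CommRingCat.comp_apply, h5, ← CommRingCat.comp_apply, hid]
  rfl

/-- A residually trivial étale neighbourhood splitting off a finite clopen piece at a quasi-finite point. -/
theorem exists_elementary_piece (f : X ⟶ S) [LocallyOfFiniteType f] (x : X) (hx : f.QuasiFiniteAt x) :
    ∃ (T : Scheme.{u}) (g : T ⟶ S) (u : T), Etale g ∧ g u = f x ∧
      Function.Surjective (g.residueFieldMap u) ∧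
      ∃ (V : (pullback f g).Opens) (v : ↥(pullback f g)), IsFinite (V.ι ≫ pullback.snd f g) ∧ v ∈ V ∧
        pullback.fst f g v = x ∧ pullback.snd f g v = u ∧
        (∀ w ∈ V, pullback.snd f g w = u → w = v) := by
  obtain ⟨U, hU, hxU, -⟩ := exists_isAffineOpen_mem_and_subset (X := S) (x := f x) (U := ⊤) trivial
  obtain ⟨V, hV, hxV, hUV⟩ := exists_isAffineOpen_mem_and_subset (X := X) (x := x) (U := f ⁻¹ᵁ U) hxU
  have : (f.appLE U V hUV).hom.FiniteType := f.finiteType_appLE hU hV hUV
  algebraize [(f.appLE U V hUV).hom]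
  let q := (hV.primeIdealOf ⟨x, hxV⟩).asIdeal
  let p := (hU.primeIdealOf ⟨f x, hxU⟩).asIdeal
  have : q.LiesOver p := by
    suffices h : hU.primeIdealOf ⟨f x, hxU⟩ = Spec.map (f.appLE U V hUV) (hV.primeIdealOf ⟨x, hxV⟩) from
      ⟨congr(($h).1)⟩
    apply hU.fromSpec.isOpenEmbedding.injective
    rw [hU.fromSpec_primeIdealOf, ← Scheme.Hom.comp_apply, IsAffineOpen.SpecMap_appLE_fromSpec f hU hV hUV,
      Scheme.Hom.comp_apply, hV.fromSpec_primeIdealOf]
  have : Algebra.QuasiFiniteAt Γ(S, U) q := hx.quasiFiniteAt hV hU hUV hxV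
  obtain ⟨R', _, _, _, P, _, _, e, _, P', _, _, hP'q, heP', hbij, hfin, huniq⟩ :=
    Algebra.exists_etale_isIdempotentElem_forall_liesOver_eq p q
  have : (algebraMap R' (Localization.Away e)).Finite := RingHom.finite_algebraMap.mpr hfin
  let φ : Γ(S, U) ⟶ .of R' := CommRingCat.ofHom <| algebraMap Γ(S, U) R'
  have hφ : φ.hom.Etale := RingHom.etale_algebraMap.mpr ‹_›
  have : Etale (Spec.map φ) := HasRingHomProperty.Spec_iff.mpr hφ
  let e₁ : Spec (.of (R' ⊗[Γ(S, U)] Γ(X, V))) ≅ pullback (Spec.map (f.appLE U V hUV)) (Spec.map φ) :=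
    (pullbackSpecIso _ _ _).symm ≪≫ pullbackSymmetry _ _
  let g : Spec (.of (R' ⊗[Γ(S, U)] Γ(X, V))) ⟶ pullback f (Spec.map φ ≫ hU.fromSpec) :=
    e₁.hom ≫ pullback.map _ _ _ _ hV.fromSpec (𝟙 _) hU.fromSpec
      (IsAffineOpen.SpecMap_appLE_fromSpec ..) (by simp)
  haveI : IsOpenImmersion g := inferInstance
  have he₁fst : e₁.hom ≫ pullback.fst _ _ =
      Spec.map (CommRingCat.ofHom Algebra.TensorProduct.includeRight.toRingHom) := by
    dsimp [e₁, RingHom.algebraMap_toAlgebra]
    rw [Category.assoc, pullbackSymmetry_hom_comp_fst]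
    exact pullbackSpecIso_inv_snd ..
  have he₁snd : e₁.hom ≫ pullback.snd _ _ =
      Spec.map (CommRingCat.ofHom (algebraMap R' (R' ⊗[Γ(S, U)] Γ(X, V)))) := by
    dsimp [e₁, RingHom.algebraMap_toAlgebra]
    rw [Category.assoc, pullbackSymmetry_hom_comp_snd]
    exact pullbackSpecIso_inv_fst ..
  have hgfst : g ≫ pullback.fst _ _ = Spec.map (CommRingCat.ofHom
      Algebra.TensorProduct.includeRight.toRingHom) ≫ hV.fromSpec := by
    simp only [g, Category.assoc, pullback.map, pullback.lift_fst, reassoc_of% he₁fst]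
  have hgsnd : g ≫ pullback.snd _ _ = Spec.map (CommRingCat.ofHom (algebraMap R' _)) := by
    simp only [g, Category.assoc, pullback.map, pullback.lift_snd, Category.comp_id, he₁snd]
  let W₁ := g ''ᵁ PrimeSpectrum.basicOpen e
  have hW₁ : IsFinite (W₁.ι ≫ pullback.snd f _) := by
    let ι : Spec (.of (Localization.Away e)) ⟶ pullback f (Spec.map φ ≫ hU.fromSpec) :=
      Spec.map (CommRingCat.ofHom <| algebraMap _ _) ≫ g
    have : ι.opensRange = W₁ := by
      simp only [Scheme.Hom.opensRange_comp, ι, W₁]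
      congr 1
      exact TopologicalSpace.Opens.ext <| PrimeSpectrum.localization_away_comap_range _ _
    rw [← this, ← MorphismProperty.cancel_left_of_respectsIso @IsFinite
      (Scheme.Hom.isoOpensRange _).hom]
    have H : ι ≫ pullback.snd f _ = Spec.map (CommRingCat.ofHom (algebraMap R' (Localization.Away e))) := by
      show (Spec.map _ ≫ g) ≫ _ = _
      rw [Category.assoc, hgsnd, ← Spec.map_comp, ← CommRingCat.ofHom_comp,
        ← IsScalarTower.algebraMap_eq]
    simp only [Scheme.Hom.isoOpensRange, IsOpenImmersion.isoOfRangeEq_hom_fac_assoc]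
    rw [H]
    rw [IsFinite.SpecMap_iff]
    exact ‹(algebraMap R' (Localization.Away e)).Finite›
  let v₀ : Spec (.of (R' ⊗[Γ(S, U)] Γ(X, V))) := ⟨P', ‹_›⟩
  let u₀ : Spec (.of R') := ⟨P, ‹_›⟩
  have hPu : Spec.map φ u₀ = hU.primeIdealOf ⟨f x, hxU⟩ := PrimeSpectrum.ext (Ideal.over_def P p).symm
  have hu : (Spec.map φ ≫ hU.fromSpec) u₀ = f x := by
    rw [Scheme.Hom.comp_apply, hPu, hU.fromSpec_primeIdealOf]
  refine ⟨Spec (.of R'), Spec.map φ ≫ hU.fromSpec, u₀, inferInstance, hu, ?_, W₁, g v₀, hW₁,
    ⟨v₀, heP', rfl⟩, ?_, ?_, ?_⟩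
  · -- residual triviality
    let b := RingEquiv.ofBijective _ hbij
    let κp := p.ResidueField
    let t : Spec (CommRingCat.of κp) ⟶ Spec (.of R') :=
      Spec.map (CommRingCat.ofHom (b.symm.toRingHom.comp (algebraMap R' P.ResidueField)))
    have hcomp : (b.symm.toRingHom.comp (algebraMap R' P.ResidueField)).comp (algebraMap Γ(S, U) R') =
        algebraMap Γ(S, U) κp := RingHom.ext fun r => by
      show b.symm (algebraMap R' P.ResidueField (algebraMap Γ(S, U) R' r)) = _
      apply b.injective
      rw [RingEquiv.apply_symm_apply]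
      exact ((Ideal.ResidueField.mapₐ p P (Algebra.ofId _ _) (P.over_def p)).commutes r).symm
    have htpt : t (closedPoint κp) = u₀ := by
      refine PrimeSpectrum.ext ?_
      show Ideal.comap _ (IsLocalRing.maximalIdeal κp) = P
      rw [IsLocalRing.maximalIdeal_eq_bot]
      ext r
      show b.symm (algebraMap R' P.ResidueField r) = 0 ↔ _
      rw [map_eq_zero_iff _ b.symm.injective, Ideal.algebraMap_residueField_eq_zero]
    obtain ⟨ε, hε⟩ := exists_eq_fieldPt t u₀ htpt
    let gS := Spec.map φ ≫ hU.fromSpec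
    let s := gS u₀
    have hs : s ∈ U := by show gS u₀ ∈ U; rw [hu]; exact hxU
    obtain ⟨χ, hχ⟩ := Spec.map_surjective (IsOpenImmersion.lift hU.fromSpec (S.fromSpecResidueField s) (by
      rw [Scheme.range_fromSpecResidueField, hU.range_fromSpec]
      rintro _ rfl
      exact hs))
    have hχ' : Spec.map χ ≫ hU.fromSpec = S.fromSpecResidueField s := by
      rw [hχ, IsOpenImmersion.lift_fac]
    have hev : χ ≫ gS.residueFieldMap u₀ ≫ ε = CommRingCat.ofHom (algebraMap Γ(S, U) κp) := by
      apply Spec.map_injective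
      rw [← cancel_mono hU.fromSpec, Spec.map_comp, Category.assoc, hχ', Spec.map_comp, Category.assoc]
      rw [Scheme.Hom.SpecMap_residueFieldMap_fromSpecResidueField]
      rw [← Category.assoc, show Spec.map ε ≫ (Spec (.of R')).fromSpecResidueField u₀ = t from hε]
      show Spec.map _ ≫ Spec.map φ ≫ hU.fromSpec = _
      rw [← Spec.map_comp_assoc, ← hcomp]
      rfl
    intro a
    obtain ⟨r', s', -, hrs'⟩ := IsFractionRing.div_surjective (A := Γ(S, U) ⧸ p) (ε.hom a : κp)
    obtain ⟨r, rfl⟩ := Ideal.Quotient.mk_surjective r'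
    obtain ⟨s'', rfl⟩ := Ideal.Quotient.mk_surjective s'
    refine ⟨χ r / χ s'', ε.hom.injective ?_⟩
    have h1 : ∀ r, ε.hom ((gS.residueFieldMap u₀).hom (χ r)) = algebraMap Γ(S, U) κp r := fun r =>
      congr($(hev).hom r)
    show ε.hom ((gS.residueFieldMap u₀).hom (χ r / χ s'')) = ε.hom a
    rw [map_div₀, map_div₀, h1, h1]
    exact hrs'
  · rw [← Scheme.Hom.comp_apply, hgfst, Scheme.Hom.comp_apply]
    have : Spec.map (CommRingCat.ofHom (Algebra.TensorProduct.includeRight (R := Γ(S, U)) (A := R') (B := Γ(X, V))).toRingHom) v₀ =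
        hV.primeIdealOf ⟨x, hxV⟩ := PrimeSpectrum.ext hP'q
    rw [this, hV.fromSpec_primeIdealOf]
  · rw [← Scheme.Hom.comp_apply, hgsnd]
    exact PrimeSpectrum.ext (Ideal.over_def P' P).symm
  · rintro w ⟨z, hze, rfl⟩ hw
    change (g ≫ pullback.snd f (Spec.map φ ≫ hU.fromSpec)) z = u₀ at hw
    rw [hgsnd] at hw
    refine congrArg g (PrimeSpectrum.ext (huniq z.asIdeal z.isPrime ⟨?_⟩ hze))
    exact (congrArg PrimeSpectrum.asIdeal hw).symm

end Groth.Agent.Weight
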