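import Groth.Agent.Lib.Weight4.DegRank
import Groth.Agent.Lib.PtSet.Constr

/-!
# Strata of the fibre degree
-/

universe u

open CategoryTheory CategoryTheory.Limits AlgebraicGeometry IsLocalRing Topology

noncomputable section

set_option backward.isDefEq.respectTransparency.types false

namespace Groth.Agent.DegRank

open Groth.Agent.AlgSpDecent

variable {X S : Scheme.{u}} (f : X ⟶ S) [Flat f] [LocallyOfFinitePresentation f] [IsSeparated f]
  [LocallyQuasiFinite f]

theorem isClosed_deg_le (hfin : ∀ y, IsFinite (f.fiberToSpecResidueField y)) (r : ℕ) :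
    IsClosed {s : S | DegStrat.deg f s ≤ r} := by
  rw [← isOpen_compl_iff]
  convert DegStrat.isOpen_deg_ge f hfin (r + 1) using 1
  ext s
  simp only [Set.mem_compl_iff, Set.mem_ofPred_eq]
  omega

theorem isFinLocFreeOfDeg_iff (hfin : ∀ y, IsFinite (f.fiberToSpecResidueField y)) {T : Scheme.{u}}
    (g : T ⟶ S) (r : ℕ) :
    Mor2.IsFinLocFreeOfDeg r (pullback.snd f g) ↔ ∀ t : T, DegStrat.deg f (g t) = r := by
  let p := pullback.snd f g
  have sq := IsPullback.of_hasPullback f g
  have : Flat p := MorphismProperty.of_isPullback sq ‹Flat f›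
  have : LocallyOfFinitePresentation p := MorphismProperty.of_isPullback sq ‹_›
  have : LocallyQuasiFinite p := MorphismProperty.of_isPullback sq ‹_›
  have : IsSeparated p := MorphismProperty.of_isPullback sq ‹_›
  have hfin' : ∀ t, IsFinite (p.fiberToSpecResidueField t) := fun t =>
    have := hfin (g t)
    DegStrat.isFinite_fibre_baseChange sq t
  refine ⟨fun h t => ?_, fun h => DegStrat.isFinLocFreeOfDeg_of_deg p hfin' fun t => ?_⟩
  · have : IsFinite p := h.1.1
    have := hfin (g t)
    rw [← DegStrat.deg_baseChange sq t, DegStrat.deg_eq_finrank, h.2]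
  · have := hfin (g t)
    rw [DegStrat.deg_baseChange sq t, h]

theorem isRetrocompact_deg_eq [QuasiCompact f] (r : ℕ) :
    IsRetrocompact {s : S | DegStrat.deg f s = r} := by
  have hlc : IsLocallyConstructible {s : S | DegStrat.deg f s = r} := by
    have : LocallyOfFiniteType f := inferInstance
    have hw : MoreMor.IsWeighting f (Weight.wt f) := by
      intro V g _ U hU
      haveI := hU
      let π := U.ι ≫ pullback.snd f g
      have : Flat π := inferInstance
      have h : MoreMor.fibreIntegral π (fun u => Weight.wt f (pullback.fst f g (U.ι u))) =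
          fun v => (π.finrank v : ℤ) := funext fun v => by
        rw [← Weight.fibreIntegral_wt_eq_finrank π v]
        exact Weight.fibreIntegral_congr _ _ _ _ fun z _ =>
          (Weight.wt_of_commSq (f := f) (f' := π) (j := U.ι ≫ pullback.fst f g) (g := g)
            (by rw [Category.assoc, Category.assoc, pullback.condition]) z).symm
      show IsLocallyConstant _
      rw [h]
      exact (π.isLocallyConstant_finrank).comp _
    have := Weight.isLocallyConstructible_fibreIntegral (Weight.wt f) hw (r : ℤ)
    simp only [← deg_eq_fibreIntegral, Nat.cast_inj] at this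
    exact this
  intro U hU hUo
  obtain ⟨I, hI, hUI⟩ := (isCompact_and_isOpen_iff_finite_and_eq_biUnion_affineOpens).1 ⟨hU, hUo⟩
  subst hUI
  rw [Set.inter_iUnion₂]
  refine hI.isCompact_biUnion fun V hV => ?_
  have hC := (hlc.preimage_of_isOpenEmbedding (f := (V.1.ι : V.1.toScheme → S)) V.1.ι.isOpenEmbedding)
  haveI : IsAffine V.1.toScheme := V.2
  have hC' := hC.isConstructible
  have : IsCompact (V.1.ι ⁻¹' {s : S | DegStrat.deg f s = r}) := (PtSet.isRetrocompact_constructible hC').isCompact
  convert this.image V.1.ι.continuous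
  rw [Set.image_preimage_eq_inter_range]
  congr 1
  exact V.1.range_ι.symm

end Groth.Agent.DegRank
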