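import Groth.Agent.Lib.Weight4.NbhdFinite

/-!
# Finite parts at finitely many quasi-finite points over one elementary neighbourhood
-/

universe u

open AlgebraicGeometry CategoryTheory Limits IsLocalRing

namespace Groth.Agent.Weight

variable {X S : Scheme.{u}} (f : X ⟶ S) [LocallyOfFiniteType f]

theorem exists_elementary_parts (s : S) : ∀ (n : ℕ) (x : Fin n → X), (∀ i, f (x i) = s) →
    (∀ i, f.QuasiFiniteAt (x i)) →
    ∃ (T : Scheme.{u}) (g : T ⟶ S) (σ : Spec (S.residueField s) ⟶ T) (V : Fin n → (pullback f g).Opens),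
      Etale g ∧ σ ≫ g = S.fromSpecResidueField s ∧ ∀ i, IsFinite ((V i).ι ≫ pullback.snd f g) ∧
        ∃ v ∈ V i, pullback.fst f g v = x i ∧ pullback.snd f g v = σ (closedPoint (S.residueField s)) ∧
          (∀ w ∈ V i, pullback.snd f g w = σ (closedPoint (S.residueField s)) → w = v) ∧
          Function.Surjective ((pullback.fst f g).residueFieldMap v) := by
  intro n
  induction n with
  | zero =>
    intro x _ _
    exact ⟨S, 𝟙 S, S.fromSpecResidueField s, Fin.elim0, inferInstance, Category.comp_id _, fun i => i.elim0⟩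
  | succ n ih =>
    intro x hs hx
    obtain ⟨T₁, g₁, σ₁, V₁, hg₁, hσ₁, hV₁⟩ :=
      ih (fun i => x i.castSucc) (fun i => hs _) (fun i => hx _)
    obtain ⟨T₂, g₂, u₂, hg₂, hu₂, hres₂, V₂, v₂, hV₂, hv₂V, hv₂x, hv₂u, huniq₂⟩ :=
      exists_elementary_piece f (x (Fin.last n)) (hx _)
    obtain ⟨σ₂, hσ₂, hσ₂u⟩ := exists_section_of_surjective g₂ u₂ s (hu₂.trans (hs _)) hres₂
    haveI := hg₁
    haveI := hg₂
    let g := pullback.fst g₁ g₂ ≫ g₁
    let σ := pullback.lift σ₁ σ₂ (hσ₁.trans hσ₂.symm)
    let u := σ (closedPoint (S.residueField s))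
    have hgσ : σ ≫ g = S.fromSpecResidueField s := by rw [pullback.lift_fst_assoc, hσ₁]
    have hgu : g u = s := by
      show g (σ _) = s
      rw [← Scheme.Hom.comp_apply, hgσ]
      exact S.fromSpecResidueField_apply s _
    have hres : Function.Surjective (g.residueFieldMap u) :=
      residueFieldMap_surjective_of_section g u s hgu σ hgσ rfl
    -- transport a piece along a projection
    have key : ∀ {Ti : Scheme.{u}} (gi : Ti ⟶ S) (k : pullback g₁ g₂ ⟶ Ti) (hk : k ≫ gi = g)
        (Vi : (pullback f gi).Opens) (vi : ↥(pullback f gi)) (xi : X), IsFinite (Vi.ι ≫ pullback.snd f gi) →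
        vi ∈ Vi → pullback.fst f gi vi = xi → pullback.snd f gi vi = k u →
        (∀ w ∈ Vi, pullback.snd f gi w = k u → w = vi) →
        ∀ O : (pullback f g).Opens,
          O = bcMap (IsPullback.of_hasPullback f gi) (IsPullback.of_hasPullback f g) k hk ⁻¹ᵁ Vi →
        IsFinite (O.ι ≫ pullback.snd f g) ∧
          ∃ v ∈ O, pullback.fst f g v = xi ∧ pullback.snd f g v = u ∧
            (∀ w ∈ O, pullback.snd f g w = u → w = v) ∧
            Function.Surjective ((pullback.fst f g).residueFieldMap v) := by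
      intro Ti gi k hk Vi vi xi hfin hvi hfst hsnd huniq O hO
      subst hO
      haveI := hfin
      let H := IsPullback.of_hasPullback f gi
      let H' := IsPullback.of_hasPullback f g
      let b := bcMap H H' k hk
      refine ⟨isFinite_preimage H H' k hk Vi, ?_⟩
      obtain ⟨v, hv1, hv2⟩ := Scheme.Pullback.exists_preimage_pullback (f := f) (g := g) xi u (by
        rw [← hfst, ← Scheme.Hom.comp_apply, pullback.condition, Scheme.Hom.comp_apply, hsnd,
          ← Scheme.Hom.comp_apply, hk])
      have hbv1 : pullback.fst f gi (b v) = xi := by rw [← Scheme.Hom.comp_apply, bcMap_fst, hv1]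
      have hbv2 : pullback.snd f gi (b v) = k u := by
        rw [← Scheme.Hom.comp_apply, bcMap_snd, Scheme.Hom.comp_apply, hv2]
      -- `b v = vi` as the fibre over `k u` is residually trivial
      have hkres : Function.Surjective (gi.residueFieldMap (k u)) := by
        refine residueFieldMap_surjective_of_section gi (k u) s ?_ (σ ≫ k)
          (by rw [Category.assoc, hk, hgσ]) rfl
        rw [← Scheme.Hom.comp_apply, hk, hgu]
      have hbv : b v = vi :=
        (pullback_residue_trivial f gi vi (b v) (by rw [hsnd]; exact hkres)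
          (hbv1.trans hfst.symm) (hbv2.trans hsnd.symm)).1
      refine ⟨v, show b v ∈ Vi by rw [hbv]; exact hvi, hv1, hv2, fun w hw hwu => ?_,
        (pullback_residue_trivial f g v v (by rw [hv2]; exact hres) rfl rfl).2⟩
      have hw' : b w = vi := huniq (b w) hw (by
        rw [← Scheme.Hom.comp_apply, bcMap_snd, Scheme.Hom.comp_apply, hwu])
      refine (pullback_residue_trivial f g v w (by rw [hv2]; exact hres) ?_ (hwu.trans hv2.symm)).1
      rw [hv1, ← hfst, ← hw', ← Scheme.Hom.comp_apply, bcMap_fst]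
    refine ⟨pullback g₁ g₂, g, σ,
      Fin.lastCases (bcMap (IsPullback.of_hasPullback f g₂) (IsPullback.of_hasPullback f g)
        (pullback.snd g₁ g₂) pullback.condition.symm ⁻¹ᵁ V₂)
        (fun i => bcMap (IsPullback.of_hasPullback f g₁) (IsPullback.of_hasPullback f g)
        (pullback.fst g₁ g₂) rfl ⁻¹ᵁ V₁ i), inferInstance, hgσ, fun i => ?_⟩
    induction i using Fin.lastCases with
    | last =>
      have hk2 : pullback.snd g₁ g₂ u = u₂ := by
        show pullback.snd g₁ g₂ (σ _) = u₂
        rw [← Scheme.Hom.comp_apply, pullback.lift_snd, hσ₂u]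
      exact key g₂ (pullback.snd g₁ g₂) pullback.condition.symm V₂ v₂ (x (Fin.last n)) hV₂ hv₂V hv₂x
        (hv₂u.trans hk2.symm) (fun w hw hwu => huniq₂ w hw (hwu.trans hk2)) _ (Fin.lastCases_last ..)
    | cast i =>
      obtain ⟨hfin, v, hvV, hvx, hvu, huniq, -⟩ := hV₁ i
      have hk1 : pullback.fst g₁ g₂ u = σ₁ (closedPoint (S.residueField s)) := by
        show pullback.fst g₁ g₂ (σ _) = _
        rw [← Scheme.Hom.comp_apply, pullback.lift_fst]
      exact key g₁ (pullback.fst g₁ g₂) rfl (V₁ i) v (x i.castSucc) hfin hvV hvx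
        (hvu.trans hk1.symm) (fun w hw hwu => huniq w hw (hwu.trans hk1)) _ (Fin.lastCases_castSucc ..)

end Groth.Agent.Weight
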