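import Groth.Agent.Lib.Weight4.Basic
import Groth.Agent.Lib.PtSet.Spectral
import Groth.Agent.Lib.SchBasic.Basic
import Mathlib.AlgebraicGeometry.Morphisms.FinitePresentation
import Mathlib.AlgebraicGeometry.Morphisms.Separated
import Mathlib.AlgebraicGeometry.Morphisms.ClosedImmersion

/-!
# Level sets of weightings are locally constructible
-/

universe u

open AlgebraicGeometry CategoryTheory Limits IsLocalRing Topology

namespace Groth.Agent.Weight

/-- Constructible covers of constructible sets have finite subcovers. -/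
theorem exists_finset_cover {Z : Type*} [TopologicalSpace Z] [CompactSpace Z] [QuasiSober Z]
    [PrespectralSpace Z] [QuasiSeparatedSpace Z] {D : Set Z} (hD : IsConstructible D) {ι : Type*}
    (C : ι → Set Z) (hC : ∀ i, IsConstructible (C i)) (hcov : D ⊆ ⋃ i, C i) :
    ∃ s : Finset ι, D ⊆ ⋃ i ∈ s, C i := by
  obtain ⟨s, hs⟩ := (PtSet.isClopen_toPatch_of_isConstructible hD).1.isCompact.elim_finite_subcover
    (fun i => PtSet.toPatch (C i)) (fun i => (PtSet.isClopen_toPatch_of_isConstructible (hC i)).2)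
    (fun z hz => by
      obtain ⟨i, hi⟩ := Set.mem_iUnion.1 (hcov hz)
      exact Set.mem_iUnion.2 ⟨i, hi⟩)
  refine ⟨s, fun z hz => ?_⟩
  have := hs (show WithTopology.toTopology _ z ∈ PtSet.toPatch D by
    show WithTopology.ofTopology (WithTopology.toTopology _ z) ∈ D
    exact hz)
  simpa [PtSet.toPatch] using this

variable {X Y : Scheme.{u}}

/-- A single lift. -/
theorem fibreIntegral_of_unique {W U : Scheme.{u}} (π : W ⟶ U) [IsFinite π] (φ : W → ℤ) (z : W)
    (huniq : ∀ {Ω : Type u} [Field Ω] [IsAlgClosed Ω] (a b : Spec (CommRingCat.of Ω) ⟶ W),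
      a ≫ π = b ≫ π → π (pt a) = π z → a = b) : MoreMor.fibreIntegral π φ (π z) = φ z := by
  obtain ⟨t, ht⟩ := exists_geomPt (π z)
  rw [fibreIntegral_eq π (fun z => π.quasiFiniteAt z) φ t _ ht (π.finite_preimage_singleton _)]
  obtain ⟨a, ha, haz⟩ := exists_lift_of_eq π z (π.quasiFiniteAt z) t ht.symm
  haveI : Unique {b : Spec (CommRingCat.of (AlgebraicClosure (U.residueField (π z)))) ⟶ W // b ≫ π = t} :=
    { default := ⟨a, ha⟩
      uniq := fun b => Subtype.ext (huniq b.1 a (b.2.trans ha.symm) (by rw [← pt_comp, b.2, ht])) }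
  rw [finsum_eq_single _ (⟨a, ha⟩ : {b : Spec (CommRingCat.of (AlgebraicClosure (U.residueField (π z)))) ⟶ W // b ≫ π = t}) (fun b hb => absurd (Subsingleton.elim b _) hb)]
  exact congrArg φ haz

/-- If there is one geometric point over `u`, the same holds on a constructible neighbourhood. -/
theorem exists_constructible_unique_lift {W U : Scheme.{u}} (π : W ⟶ U) [IsFinite π] [IsAffine U]
    {Ω₀ : Type u} [Field Ω₀] [IsAlgClosed Ω₀] (t₀ : Spec (CommRingCat.of Ω₀) ⟶ U)
    (h : ∀ a b : Spec (CommRingCat.of Ω₀) ⟶ W, a ≫ π = t₀ → b ≫ π = t₀ → a = b) :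
    ∃ E : Set U, IsConstructible E ∧ pt t₀ ∈ E ∧
      ∀ {Ω : Type u} [Field Ω] [IsAlgClosed Ω] (a b : Spec (CommRingCat.of Ω) ⟶ W),
        a ≫ π = b ≫ π → π (pt a) ∈ E → a = b := by
  classical
  haveI : IsAffine W := isAffine_of_isAffineHom π
  let q := pullback.fst π π ≫ π
  haveI : IsAffine (pullback π π) := isAffine_of_isAffineHom q
  let Δ := pullback.diagonal π
  haveI : LocallyOfFinitePresentation Δ := by
    haveI : LocallyOfFinitePresentation (Δ ≫ pullback.fst π π) := by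
      rw [pullback.diagonal_fst]; infer_instance
    exact SchBasic.locallyOfFinitePresentation_of_comp Δ (pullback.fst π π)
  haveI : IsClosedImmersion Δ := inferInstanceAs (IsClosedImmersion (pullback.diagonal π))
  let D : Set (pullback π π : Scheme.{u}) := (Set.range Δ)ᶜ
  have hD : IsConstructible D := by
    rw [isConstructible_compl, ← Set.image_univ]
    exact Δ.isConstructible_image IsConstructible.univ
  have hne : ∀ d ∈ D, q d ≠ pt t₀ := by
    intro d hd hdt
    obtain ⟨c, hc, hcd⟩ := exists_lift_of_eq q d (q.quasiFiniteAt d) t₀ hdt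
    have hab := h (c ≫ pullback.fst π π) (c ≫ pullback.snd π π) (by rw [Category.assoc]; exact hc)
      (by rw [Category.assoc, ← pullback.condition]; exact hc)
    refine hd ⟨pt (c ≫ pullback.fst π π), ?_⟩
    rw [← pt_comp, ← hcd]
    congr 2
    apply pullback.hom_ext
    · simp [Δ]
    · simp [Δ, hab]
  have hsep : ∀ d : D, ∃ C : Set U, IsConstructible C ∧ q d.1 ∈ C ∧ pt t₀ ∉ C := by
    intro d
    haveI : SpectralSpace U := SpectralSpace.mk
    obtain ⟨V, hVo, hVc, hiff⟩ := PtSet.exists_compactOpen_separating (hne d.1 d.2)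
    by_cases hd : q d.1 ∈ V
    · exact ⟨V, hVc.isConstructible hVo, hd, hiff.1 hd⟩
    · exact ⟨Vᶜ, isConstructible_compl.2 (hVc.isConstructible hVo), hd,
        fun ht => ht (not_not.1 fun hn => hd (hiff.2 hn))⟩
  choose C hCc hCd hCt using hsep
  obtain ⟨s, hs⟩ := exists_finset_cover hD (fun d => q ⁻¹' C d)
    (fun d => q.isConstructible_preimage (hCc d)) (fun d hd => Set.mem_iUnion.2 ⟨⟨d, hd⟩, hCd ⟨d, hd⟩⟩)
  refine ⟨(⋃ d ∈ (↑s : Set D), C d)ᶜ, isConstructible_compl.2
    (IsConstructible.biUnion s.finite_toSet fun d _ => hCc d), ?_, ?_⟩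
  · simp only [Set.mem_compl_iff, Set.mem_iUnion, not_exists]
    exact fun d _ hd => hCt d hd
  · intro Ω _ _ a b hab hE
    let c := pullback.lift a b hab
    have hc : pt c ∈ Set.range Δ := by
      by_contra hcD
      obtain ⟨d, hds, hd⟩ := Set.mem_iUnion₂.1 (hs hcD)
      refine hE (Set.mem_iUnion₂.2 ⟨d, hds, ?_⟩)
      have : q (pt c) ∈ C d := hd
      rwa [← pt_comp, ← Category.assoc, pullback.lift_fst, pt_comp] at this
    haveI : Surjective (pullback.snd Δ c) := ⟨fun z => by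
      obtain ⟨w, hw⟩ := hc
      obtain ⟨y, -, hy⟩ := Scheme.Pullback.exists_preimage_pullback (f := Δ) (g := c) w (closedPoint Ω) hw
      exact ⟨y, hy.trans (Subsingleton.elim _ _)⟩⟩
    haveI : IsIso (pullback.snd Δ c) := isIso_of_isClosedImmersion_of_surjective _
    let w := inv (pullback.snd Δ c) ≫ pullback.fst Δ c
    have hw : w ≫ Δ = c := by
      rw [Category.assoc, pullback.condition, IsIso.inv_hom_id_assoc]
    have h1 : a = w := by
      rw [← pullback.lift_fst a b hab]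
      show c ≫ _ = _
      rw [← hw, Category.assoc, pullback.diagonal_fst, Category.comp_id]
    have h2 : b = w := by
      rw [← pullback.lift_snd a b hab]
      show c ≫ _ = _
      rw [← hw, Category.assoc, pullback.diagonal_snd, Category.comp_id]
    rw [h1, h2]

/-- A weighting is constant on a constructible neighbourhood of each point of an affine open. -/
theorem exists_constructible_eq {f : X ⟶ Y} [LocallyQuasiFinite f] [LocallyOfFiniteType f] (w : X → ℤ)
    (hw : MoreMor.IsWeighting f w) {X₀ : X.Opens} (hX₀ : IsAffineOpen X₀) (x : X₀) :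
    ∃ C : Set X₀, IsConstructible C ∧ x ∈ C ∧ ∀ x' ∈ C, w x'.1 = w x.1 := by
  obtain ⟨U, gU, W, u, hgU, hfin, hu, ⟨z0, hz0, hz0u, hz0x⟩, huz, hFI⟩ := exists_piece f x.1
  haveI := hgU
  haveI := hfin
  let π := W.ι ≫ pullback.snd f gU
  let G := MoreMor.fibreIntegral π (fun z => w (pullback.fst f gU (W.ι z)))
  obtain ⟨U', hU', huU', hU'G⟩ := exists_isAffineOpen_mem_and_subset
    (U := ⟨{y | G y = w x.1}, (hw U gU W hfin).isOpen_fiber _⟩) (x := u) (hFI w)
  haveI : IsFinite (π ∣_ U') := IsZariskiLocalAtTarget.restrict hfin U'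
  haveI : IsAffine U' := hU'
  obtain ⟨t, ht⟩ := exists_geomPt u
  let t₀ := liftOpen U' t (by rw [ht]; exact huU')
  -- one geometric point over `u`
  have hone : ∀ a b : Spec (CommRingCat.of (AlgebraicClosure (U.residueField u))) ⟶ (π ⁻¹ᵁ U').toScheme,
      a ≫ (π ∣_ U') = t₀ → b ≫ (π ∣_ U') = t₀ → a = b := by
    intro a b ha hb
    have h1 := hFI fun _ => 1
    rw [fibreIntegral_eq π (fun z => π.quasiFiniteAt z) (fun z => (fun _ => (1 : ℤ)) (pullback.fst f gU (W.ι z)))
      t u ht (π.finite_preimage_singleton _)] at h1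
    haveI := finite_lifts π (fun z => π.quasiFiniteAt z) t (π.finite_preimage_singleton _)
    letI := Fintype.ofFinite {c : Spec (CommRingCat.of (AlgebraicClosure (U.residueField u))) ⟶ (W : Scheme.{u}) // c ≫ π = t}
    rw [finsum_eq_sum_of_fintype, Finset.sum_const, Finset.card_univ, nsmul_eq_mul, mul_one] at h1
    have h2 : Fintype.card {c : Spec (CommRingCat.of (AlgebraicClosure (U.residueField u))) ⟶ (W : Scheme.{u}) // c ≫ π = t} ≤ 1 := by
      exact_mod_cast h1.le
    have hmk : ∀ c, c ≫ (π ∣_ U') = t₀ → (c ≫ (π ⁻¹ᵁ U').ι) ≫ π = t := fun c hc => by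
      rw [Category.assoc, ← morphismRestrict_ι, ← Category.assoc, hc, liftOpen_ι]
    have h3 := Fintype.card_le_one_iff.1 h2 ⟨_, hmk a ha⟩ ⟨_, hmk b hb⟩
    exact (cancel_mono _).1 (congrArg Subtype.val h3)
  obtain ⟨E, hE, huE, huniq⟩ := exists_constructible_unique_lift (π ∣_ U') t₀ hone
  let q := (π ⁻¹ᵁ U').ι ≫ W.ι ≫ pullback.fst f gU
  have hπz0 : π ⟨z0, hz0⟩ = u := hz0u
  let z1 : (π ⁻¹ᵁ U').toScheme := ⟨⟨z0, hz0⟩, by show π _ ∈ U'; rw [hπz0]; exact huU'⟩
  obtain ⟨W₂, hW₂, hz1, hW₂X⟩ := exists_isAffineOpen_mem_and_subset (U := q ⁻¹ᵁ X₀) (x := z1)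
    (show pullback.fst f gU z0 ∈ X₀ by rw [hz0x]; exact x.2)
  let r := q.resLE X₀ W₂ hW₂X
  haveI : LocallyOfFinitePresentation r := by
    haveI : LocallyOfFinitePresentation (r ≫ X₀.ι) := by
      rw [Scheme.Hom.resLE_comp_ι]; infer_instance
    exact SchBasic.locallyOfFinitePresentation_of_comp r X₀.ι
  haveI : IsAffine W₂ := hW₂
  haveI : IsAffine X₀ := hX₀
  let S : Set W₂ := (W₂.ι ≫ (π ∣_ U')) ⁻¹' E
  refine ⟨r '' S, r.isConstructible_image ((W₂.ι ≫ (π ∣_ U')).isConstructible_preimage hE),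
    ⟨⟨z1, hz1⟩, ?_, ?_⟩, ?_⟩
  · show (π ∣_ U') z1 ∈ E
    have : (π ∣_ U') z1 = pt t₀ := by
      refine U'.ι.isOpenEmbedding.injective ?_
      rw [← Scheme.Hom.comp_apply, morphismRestrict_ι, ← pt_comp, liftOpen_ι, ht]
      exact hπz0
    rw [this]; exact huE
  · refine Subtype.ext ?_
    show X₀.ι (r ⟨z1, hz1⟩) = x.1
    rw [← Scheme.Hom.comp_apply, Scheme.Hom.resLE_comp_ι]
    exact hz0x
  · rintro _ ⟨z, hz, rfl⟩
    show w (X₀.ι (r z)) = w x.1
    rw [← Scheme.Hom.comp_apply, Scheme.Hom.resLE_comp_ι]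
    let y := W₂.ι z
    have hy : G (π ((π ⁻¹ᵁ U').ι y)) = w x.1 := hU'G y.2
    rw [← hy]
    refine (fibreIntegral_of_unique π (fun z => w (pullback.fst f gU (W.ι z))) ((π ⁻¹ᵁ U').ι y) ?_).symm
    intro Ω _ _ a b hab ha
    have hmem : π (pt a) ∈ U' := by rw [ha]; exact y.2
    have hmem' : π (pt b) ∈ U' := by rw [← pt_comp, ← hab]; exact hmem
    have hE' := huniq (liftOpen (π ⁻¹ᵁ U') a hmem) (liftOpen (π ⁻¹ᵁ U') b hmem')
      (by rw [← cancel_mono U'.ι, Category.assoc, Category.assoc, morphismRestrict_ι,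
        reassoc_of% (liftOpen_ι (π ⁻¹ᵁ U') a hmem), reassoc_of% (liftOpen_ι (π ⁻¹ᵁ U') b hmem')]
          exact hab)
      (by
        have : (π ∣_ U') (pt (liftOpen (π ⁻¹ᵁ U') a hmem)) = (π ∣_ U') y := by
          refine U'.ι.isOpenEmbedding.injective ?_
          rw [← Scheme.Hom.comp_apply, ← Scheme.Hom.comp_apply, morphismRestrict_ι, Scheme.Hom.comp_apply,
            Scheme.Hom.comp_apply, ← pt_comp, liftOpen_ι]
          rw [← Scheme.Hom.comp_apply (π ∣_ U'), morphismRestrict_ι]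
          exact ha
        rw [this]; exact hz)
    rw [← liftOpen_ι (π ⁻¹ᵁ U') a hmem, hE', liftOpen_ι]

/-- On an affine open a weighting takes finitely many values, on constructible sets. -/
theorem exists_finite_partition {f : X ⟶ Y} [LocallyQuasiFinite f] [LocallyOfFiniteType f] (w : X → ℤ)
    (hw : MoreMor.IsWeighting f w) {X₀ : X.Opens} (hX₀ : IsAffineOpen X₀) :
    (∀ n : ℤ, IsConstructible {x : X₀ | w x.1 = n}) ∧ (Set.range fun x : X₀ => w x.1).Finite := by
  classical
  haveI : IsAffine X₀ := hX₀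
  choose C hC hxC hCw using exists_constructible_eq w hw hX₀
  obtain ⟨s, hs⟩ := exists_finset_cover (Z := X₀) IsConstructible.univ C hC
    (fun x _ => Set.mem_iUnion.2 ⟨x, hxC x⟩)
  refine ⟨fun n => ?_, (s.image fun x : X₀ => w x.1).finite_toSet.subset ?_⟩
  · have : {x : X₀ | w x.1 = n} = ⋃ i : {i : X₀ // i ∈ s ∧ w i.1 = n}, C i.1 := by
      ext x
      refine Iff.intro (fun hx => ?_) (fun hx => ?_)
      · obtain ⟨i, hi, hxi⟩ := Set.mem_iUnion₂.1 (hs (Set.mem_univ x))
        exact Set.mem_iUnion.2 ⟨⟨i, hi, (hCw i x hxi).symm.trans hx⟩, hxi⟩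
      · obtain ⟨j, hj⟩ := Set.mem_iUnion.1 hx
        exact (hCw j.1 x hj).trans j.2.2
    haveI hfi : Finite {i : X₀ // i ∈ s ∧ w i.1 = n} :=
      Finite.of_injective (fun i => (⟨i.1, i.2.1⟩ : s)) fun a b h => Subtype.ext (congrArg (fun j : s => j.1) h)
    rw [this]
    exact IsConstructible.iUnion fun j => hC j.1
  · rintro _ ⟨x, rfl⟩
    obtain ⟨i, hi, hxi⟩ := Set.mem_iUnion₂.1 (hs (Set.mem_univ x))
    exact Finset.mem_coe.2 (Finset.mem_image.2 ⟨i, hi, (hCw i x hxi).symm⟩)

/-- Level sets of weightings are locally constructible. -/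
theorem isLocallyConstructible_level {f : X ⟶ Y} [LocallyQuasiFinite f] [LocallyOfFiniteType f]
    (w : X → ℤ) (hw : MoreMor.IsWeighting f w) (n : ℤ) :
    IsLocallyConstructible {x : X | w x = n} := by
  intro x
  obtain ⟨X₀, hX₀, hx, -⟩ := exists_isAffineOpen_mem_and_subset (U := ⊤) (x := x) (Set.mem_univ x)
  exact ⟨X₀, X₀.2.mem_nhds hx, X₀.2, (exists_finite_partition w hw hX₀).1 n⟩

end Groth.Agent.Weight
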