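import Groth.Agent.Lib.Weight4.Decomp

/-!
# Local constancy of fibre integrals of weightings
-/

universe u

open AlgebraicGeometry CategoryTheory Limits IsLocalRing

namespace Groth.Agent.Weight

variable {X Y P T : Scheme.{u}} {f : X ⟶ Y} {g : T ⟶ Y} {qX : P ⟶ X} {p : P ⟶ T}

/-- Fibre integrals of a weighting are locally constant on every finite open of every base change. -/
theorem isLocallyConstant_fibreIntegral [LocallyQuasiFinite f] [LocallyOfFiniteType f] (w : X → ℤ)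
    (hw : MoreMor.IsWeighting f w) (H : IsPullback qX p f g) (A : P.Opens) [IsFinite (A.ι ≫ p)] :
    IsLocallyConstant (MoreMor.fibreIntegral (A.ι ≫ p) (fun z => w (qX (A.ι z)))) := by
  classical
  refine (IsLocallyConstant.iff_exists_open _).2 fun t0 => ?_
  obtain ⟨t, ht⟩ := exists_geomPt t0
  let Ω := AlgebraicClosure (T.residueField t0)
  let L := {b : Spec (CommRingCat.of Ω) ⟶ X // InLift H A t b}
  haveI : Finite L := finite_inLift H A t
  letI : Fintype L := Fintype.ofFinite _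
  obtain ⟨U, gU, ū, W, hgU, hū, hfin, huniq⟩ :=
    exists_split f (t ≫ g) (fun l : L => l.1) (fun l => l.2.1) (fun l => f.quasiFiniteAt _)
  haveI := hgU
  haveI : ∀ l, IsFinite ((W l).ι ≫ pullback.snd f gU) := hfin
  let HV := IsPullback.of_hasPullback f gU
  let h := pullback.fst g gU
  let k := pullback.snd g gU
  let τ : Spec (CommRingCat.of Ω) ⟶ pullback g gU := pullback.lift t ū hū.symm
  have hτh : τ ≫ h = t := pullback.lift_fst ..
  have hτk : τ ≫ k = ū := pullback.lift_snd ..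
  obtain ⟨N, hτN, hN⟩ := exists_nhd_lifts H A HV W h k pullback.condition τ
    (fun l b hb => by rw [hτh]; rw [hτk, huniq] at hb; rw [hb]; exact l.2)
    (fun b hb => by rw [hτh] at hb; exact ⟨⟨b, hb⟩, by rw [hτk, huniq]⟩)
    (fun l l' b hb hb' => by rw [hτk, huniq] at hb hb'; exact Subtype.ext (hb.symm.trans hb'))
  let G : L → U → ℤ := fun l => MoreMor.fibreIntegral ((W l).ι ≫ pullback.snd f gU)
    (fun u => w (pullback.fst f gU ((W l).ι u)))
  have hG : ∀ l, IsLocallyConstant (G l) := fun l => hw U gU (W l) (hfin l)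
  let N' : Set (pullback g gU : Scheme.{u}) := (N : Set (pullback g gU : Scheme.{u})) ∩
    ⋂ l, k ⁻¹' {y | G l y = G l (k (pt τ))}
  have hN'open : IsOpen N' :=
    N.2.inter (isOpen_iInter_of_finite fun l => ((hG l).isOpen_fiber _).preimage k.continuous)
  have key : ∀ y ∈ N, MoreMor.fibreIntegral (A.ι ≫ p) (fun z => w (qX (A.ι z))) (h y) =
      ∑ l, G l (k y) := by
    intro y hy
    obtain ⟨τ', hτ'⟩ := exists_geomPt y
    have hy' : pt τ' ∈ N := by rw [hτ']; exact hy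
    rw [fibreIntegral_eq_sumOn H A w (τ' ≫ h) (h y) (by rw [pt_comp, hτ']),
      sumOn_eq_sum H A HV W (τ' ≫ h) (τ' ≫ k) (hN τ' hy').1 (hN τ' hy').2 w]
    exact Finset.sum_congr rfl fun l _ =>
      (fibreIntegral_eq_sumOn HV (W l) w (τ' ≫ k) (k y) (by rw [pt_comp, hτ'])).symm
  have hτ0 : h (pt τ) = t0 := by rw [← pt_comp, hτh, ht]
  refine ⟨h '' N', isOpenMap_of_etale h _ hN'open, ⟨pt τ, ⟨hτN, Set.mem_iInter.2 fun l => rfl⟩, hτ0⟩, ?_⟩
  rintro _ ⟨y, ⟨hy, hy'⟩, rfl⟩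
  rw [key y hy, ← hτ0, key _ hτN]
  exact Finset.sum_congr rfl fun l _ => Set.mem_iInter.1 hy' l

/-- A finite piece around a point, with a single geometric point over the chosen point. -/
theorem exists_piece (f : X ⟶ Y) [LocallyQuasiFinite f] [LocallyOfFiniteType f] (x : X) :
    ∃ (U : Scheme.{u}) (gU : U ⟶ Y) (W : (pullback f gU).Opens) (u : U),
      Etale gU ∧ IsFinite (W.ι ≫ pullback.snd f gU) ∧ gU u = f x ∧
      (∃ z ∈ W, pullback.snd f gU z = u ∧ pullback.fst f gU z = x) ∧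
      (∀ z ∈ W, pullback.snd f gU z = u → pullback.fst f gU z = x) ∧
      ∀ w : X → ℤ, MoreMor.fibreIntegral (W.ι ≫ pullback.snd f gU)
        (fun z => w (pullback.fst f gU (W.ι z))) u = w x := by
  obtain ⟨a, ha⟩ := exists_geomPt x
  obtain ⟨U, gU, ū, W, hgU, hū, hfin, huniq⟩ :=
    exists_split f (a ≫ f) (fun _ : PUnit.{1} => a) (fun _ => rfl) (fun _ => f.quasiFiniteAt _)
  haveI := hfin ⟨⟩
  let HV := IsPullback.of_hasPullback f gU
  refine ⟨U, gU, W ⟨⟩, pt ū, hgU, hfin _, by rw [← pt_comp, hū, pt_comp, ha], ?_, fun z hz hzu => ?_, fun w => ?_⟩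
  · obtain ⟨hb, hmem⟩ := (huniq ⟨⟩ a).2 rfl
    exact ⟨_, hmem, by rw [← pt_comp, HV.lift_snd], by rw [← pt_comp, HV.lift_fst, ha]⟩
  · obtain ⟨b, hb, hbz⟩ := exists_inLift_of_mem HV (W ⟨⟩) ū z hz hzu
    rw [← hbz hb.1, ← pt_comp, HV.lift_fst, (huniq _ b).1 hb, ha]
  · rw [fibreIntegral_eq_sumOn HV (W ⟨⟩) w ū _ rfl, sumOn_singleton HV _ w ū a (huniq _), ha]

theorem fibreIntegral_eq_zero_of_isEmpty {Z V : Scheme.{u}} (π : Z ⟶ V) (φ : Z → ℤ) (v : V)
    (h : ∀ z, π z ≠ v) : MoreMor.fibreIntegral π φ v = 0 := by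
  haveI : IsEmpty {z : Z // π z = v} := ⟨fun z => h z.1 z.2⟩
  exact finsum_of_isEmpty _

/-- A positive weighting makes the morphism open. -/
theorem isOpenMap_of_isWeighting (f : X ⟶ Y) [LocallyQuasiFinite f] [LocallyOfFiniteType f]
    (w : X → ℤ) (hw : MoreMor.IsWeighting f w) (hpos : ∀ x, 0 < w x) : IsOpenMap f := by
  intro O hO
  refine isOpen_iff_forall_mem_open.2 ?_
  rintro _ ⟨x, hx, rfl⟩
  obtain ⟨U, gU, W, u, hgU, hfin, hu, -, huz, hFI⟩ := exists_piece f x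
  haveI := hgU
  haveI := hfin
  let O' : (pullback f gU).Opens := pullback.fst f gU ⁻¹ᵁ ⟨O, hO⟩
  let bad : Set U := pullback.snd f gU '' ((W : Set (pullback f gU : Scheme.{u})) \ O')
  let G := MoreMor.fibreIntegral (W.ι ≫ pullback.snd f gU) (fun z => w (pullback.fst f gU (W.ι z)))
  let N : Set U := badᶜ ∩ {y | G y = w x}
  refine ⟨gU '' N, ?_, isOpenMap_of_etale gU _ (((isClosed_image_diff _ W O').isOpen_compl).inter
    ((hw U gU W hfin).isOpen_fiber _)), ⟨u, ⟨?_, hFI w⟩, hu⟩⟩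
  · rintro _ ⟨y, ⟨hy, hGy⟩, rfl⟩
    obtain ⟨z, hz⟩ : ∃ z, (W.ι ≫ pullback.snd f gU) z = y := by
      by_contra! hne
      have h0 : w x = 0 := hGy.symm.trans (fibreIntegral_eq_zero_of_isEmpty _ _ y hne)
      exact absurd h0 (hpos x).ne'
    have hzO : W.ι z ∈ O' := by
      by_contra hzO
      exact hy ⟨W.ι z, ⟨z.2, hzO⟩, hz⟩
    refine ⟨pullback.fst f gU (W.ι z), hzO, ?_⟩
    rw [← Scheme.Hom.comp_apply, pullback.condition, Scheme.Hom.comp_apply,
      show pullback.snd f gU (W.ι z) = y from hz]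
  · rintro ⟨z, ⟨hzW, hzO⟩, hzu⟩
    exact hzO (show pullback.fst f gU z ∈ O by rw [huz z hzW hzu]; exact hx)

end Groth.Agent.Weight
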