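import Groth.Agent.Lib.Weight4.BaseChange
import Mathlib.AlgebraicGeometry.Morphisms.UniversallyOpen

/-!
# Decomposing lifts near a geometric point
-/

universe u

open AlgebraicGeometry CategoryTheory Limits IsLocalRing

namespace Groth.Agent.Weight

variable {X Y P T V : Scheme.{u}} {f : X ⟶ Y} {g : T ⟶ Y} {qX : P ⟶ X} {p : P ⟶ T} {gV : V ⟶ Y}
  {PV : Scheme.{u}} {qV : PV ⟶ X} {pV : PV ⟶ V}

/-- If the lifts at one geometric point decompose, they decompose nearby. -/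
theorem exists_nhd_lifts (H : IsPullback qX p f g) (A : P.Opens) [IsFinite (A.ι ≫ p)]
    (HV : IsPullback qV pV f gV) {L : Type*} [Finite L] (W : L → PV.Opens)
    [∀ l, IsFinite ((W l).ι ≫ pV)] {T' : Scheme.{u}} (h : T' ⟶ T) (k : T' ⟶ V)
    (hk : h ≫ g = k ≫ gV) {Ω : Type u} [Field Ω] [IsAlgClosed Ω] (τ : Spec (CommRingCat.of Ω) ⟶ T')
    (hA : ∀ l b, InLift HV (W l) (τ ≫ k) b → InLift H A (τ ≫ h) b)
    (hcov : ∀ b, InLift H A (τ ≫ h) b → ∃ l, InLift HV (W l) (τ ≫ k) b)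
    (hdisj : ∀ l l' b, InLift HV (W l) (τ ≫ k) b → InLift HV (W l') (τ ≫ k) b → l = l') :
    ∃ N : T'.Opens, pt τ ∈ N ∧ ∀ {Ω' : Type u} [Field Ω'] (τ' : Spec (CommRingCat.of Ω') ⟶ T'),
      pt τ' ∈ N → (∀ l b, InLift HV (W l) (τ' ≫ k) b → InLift H A (τ' ≫ h) b) ∧
        ∀ b, InLift H A (τ' ≫ h) b → ∃! l, InLift HV (W l) (τ' ≫ k) b := by
  have H' : IsPullback (pullback.fst f (h ≫ g)) (pullback.snd f (h ≫ g)) f (h ≫ g) :=
    IsPullback.of_hasPullback _ _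
  let A' := bcMap H H' h rfl ⁻¹ᵁ A
  let B := fun l => bcMap HV H' k hk.symm ⁻¹ᵁ W l
  haveI : IsFinite (A'.ι ≫ pullback.snd f (h ≫ g)) := isFinite_preimage H H' h rfl A
  haveI : ∀ l, IsFinite ((B l).ι ≫ pullback.snd f (h ≫ g)) := fun l => isFinite_preimage HV H' k _ (W l)
  have iA : ∀ {Ω'} [Field Ω'] (τ' : Spec (CommRingCat.of Ω') ⟶ T') b,
      InLift H' A' τ' b ↔ InLift H A (τ' ≫ h) b := fun τ' b => inLift_preimage_iff H H' h rfl A τ' b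
  have iB : ∀ {Ω'} [Field Ω'] (τ' : Spec (CommRingCat.of Ω') ⟶ T') l b,
      InLift H' (B l) τ' b ↔ InLift HV (W l) (τ' ≫ k) b :=
    fun τ' l b => inLift_preimage_iff HV H' k _ (W l) τ' b
  obtain ⟨N, hτN, hBA, hAB⟩ := exists_open_decomp (pullback.snd f (h ≫ g)) A' B (pt τ)
    (fun l z hz hzt => by
      obtain ⟨b, hb, hbz⟩ := exists_inLift_of_mem H' (B l) τ z hz hzt
      obtain ⟨hb', hmem⟩ := (iA τ b).2 (hA l b ((iB τ l b).1 hb))
      rw [← hbz hb']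
      exact hmem)
    (fun z hz hzt => by
      obtain ⟨b, hb, hbz⟩ := exists_inLift_of_mem H' A' τ z hz hzt
      obtain ⟨l, hl⟩ := hcov b ((iA τ b).1 hb)
      obtain ⟨hb', hmem⟩ := (iB τ l b).2 hl
      exact ⟨l, by rw [← hbz hb']; exact hmem⟩)
    (fun l l' z hz hz' hzt => by
      obtain ⟨b, hb, hbz⟩ := exists_inLift_of_mem H' (B l) τ z hz hzt
      have hb' : InLift H' (B l') τ b := ⟨hb.1, by rw [hbz]; exact hz'⟩
      exact hdisj l l' b ((iB τ l b).1 hb) ((iB τ l' b).1 hb'))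
  refine ⟨N, hτN, fun {Ω'} _ τ' hτ' => ⟨fun l b hb => ?_, fun b hb => ?_⟩⟩
  · obtain ⟨hb', hmem⟩ := (iB τ' l b).2 hb
    refine (iA τ' b).1 ⟨hb', hBA l _ hmem ?_⟩
    show (pullback.snd f (h ≫ g)) (pt (H'.lift b τ' hb')) ∈ N
    rw [← pt_comp, H'.lift_snd]
    exact hτ'
  · obtain ⟨hb', hmem⟩ := (iA τ' b).2 hb
    obtain ⟨l, hl, huniq⟩ := hAB _ hmem (by
      show (pullback.snd f (h ≫ g)) (pt (H'.lift b τ' hb')) ∈ N
      rw [← pt_comp, H'.lift_snd]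
      exact hτ')
    exact ⟨l, (iB τ' l b).1 ⟨hb', hl⟩, fun l' hl' => huniq l' ((iB τ' l' b).2 hl').2⟩

/-- Sums over a decomposition. -/
theorem sumOn_eq_sum (H : IsPullback qX p f g) (A : P.Opens) (HV : IsPullback qV pV f gV)
    {L : Type*} [Fintype L] (W : L → PV.Opens) [∀ l, IsFinite ((W l).ι ≫ pV)] {Ω : Type u} [Field Ω]
    [IsAlgClosed Ω] (t : Spec (CommRingCat.of Ω) ⟶ T) (v : Spec (CommRingCat.of Ω) ⟶ V)
    (h1 : ∀ l b, InLift HV (W l) v b → InLift H A t b)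
    (h2 : ∀ b, InLift H A t b → ∃! l, InLift HV (W l) v b) (w : X → ℤ) :
    sumOn H A w t = ∑ l, sumOn HV (W l) w v := by
  classical
  haveI : ∀ l, Finite {b : Spec (CommRingCat.of Ω) ⟶ X // InLift HV (W l) v b} := fun l =>
    finite_inLift HV (W l) v
  letI : ∀ l, Fintype {b : Spec (CommRingCat.of Ω) ⟶ X // InLift HV (W l) v b} := fun l =>
    Fintype.ofFinite _
  let e : (Σ l, {b : Spec (CommRingCat.of Ω) ⟶ X // InLift HV (W l) v b}) →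
      {b : Spec (CommRingCat.of Ω) ⟶ X // InLift H A t b} := fun s => ⟨s.2.1, h1 s.1 _ s.2.2⟩
  have he : Function.Bijective e := by
    refine ⟨fun ⟨l, b, hb⟩ ⟨l', b', hb'⟩ hbb => ?_, fun ⟨b, hb⟩ => ?_⟩
    · obtain rfl : b = b' := congrArg Subtype.val hbb
      obtain rfl : l = l' := (h2 b (h1 l b hb)).unique hb hb'
      rfl
    · obtain ⟨l, hl, -⟩ := h2 b hb
      exact ⟨⟨l, b, hl⟩, rfl⟩
  show ∑ᶠ b : {b : Spec (CommRingCat.of Ω) ⟶ X // InLift H A t b}, w (pt b.1) = _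
  rw [← finsum_eq_of_bijective e he (fun _ => rfl), finsum_eq_sum_of_fintype, Fintype.sum_sigma]
  exact Finset.sum_congr rfl fun l _ => (finsum_eq_sum_of_fintype _).symm

/-- Étale morphisms are open maps. -/
theorem isOpenMap_of_etale {U Z : Scheme.{u}} (e : U ⟶ Z) [Etale e] : IsOpenMap e :=
  e.isOpenMap

/-- Étale-local recognition of local constancy. -/
theorem eventually_eq_of_cover {T' : Scheme.{u}} (h : T' ⟶ T) [Etale h] (F : T → ℤ) (τ : T')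
    (N : T'.Opens) (hτ : τ ∈ N) (c : ℤ) (hN : ∀ y ∈ N, F (h y) = c) :
    ∃ U : Set T, IsOpen U ∧ h τ ∈ U ∧ ∀ x ∈ U, F x = c :=
  ⟨h '' N, isOpenMap_of_etale h _ N.2, ⟨τ, hτ, rfl⟩, by rintro _ ⟨y, hy, rfl⟩; exact hN y hy⟩

end Groth.Agent.Weight
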