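import Groth.Agent.Lib.Weight4.DegLocus

/-!
# Openness of the fibre degree without finiteness of the fibres
-/

universe u

open CategoryTheory CategoryTheory.Limits AlgebraicGeometry IsLocalRing

noncomputable section

set_option backward.isDefEq.respectTransparency.types false

namespace Groth.Agent.DegRank

open Groth.Agent.AlgSpDecent

variable {X S : Scheme.{u}} (f : X ⟶ S)

/-- Opens of the source on which the fibres are finite. -/
def FinOn (V : X.Opens) : Prop := ∀ y, IsFinite ((V.ι ≫ f).fiberToSpecResidueField y)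

theorem exists_finOn_superset [LocallyQuasiFinite f] (F : Set X) (hF : F.Finite) (y : S)
    (hy : ∀ x ∈ F, f x = y) : ∃ V : X.Opens, FinOn f V ∧ ∀ x ∈ F, x ∈ V := by
  obtain ⟨D, hD, hyD, -⟩ := exists_isAffineOpen_mem_and_subset (U := ⊤) (x := y) (Set.mem_univ y)
  choose A hA hxA hAD using fun x : F => exists_isAffineOpen_mem_and_subset (x := x.1)
    (U := f ⁻¹ᵁ D) (show f x.1 ∈ D by rw [hy _ x.2]; exact hyD)
  haveI := hF.to_subtype
  let V : X.Opens := ⨆ x, A x
  refine ⟨V, ?_, fun x hx => TopologicalSpace.Opens.mem_iSup.2 ⟨⟨x, hx⟩, hxA _⟩⟩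
  have hVc : IsCompact (V : Set X) := by
    rw [TopologicalSpace.Opens.coe_iSup]
    exact isCompact_iUnion fun x => (hA x).isCompact
  haveI : CompactSpace V.toScheme := isCompact_iff_compactSpace.1 hVc
  haveI : IsAffine D.toScheme := hD
  have hVD : ∀ v : V.toScheme, f (V.ι v) ∈ D := fun v => by
    obtain ⟨x, hx⟩ := TopologicalSpace.Opens.mem_iSup.1 v.2
    exact hAD x hx
  let h : V.toScheme ⟶ D.toScheme := IsOpenImmersion.lift D.ι (V.ι ≫ f) (by
    rintro _ ⟨v, rfl⟩; rw [D.range_ι]; exact hVD v)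
  have hh : h ≫ D.ι = V.ι ≫ f := IsOpenImmersion.lift_fac _ _ _
  have : LocallyQuasiFinite (V.ι ≫ f) := inferInstance
  have : LocallyQuasiFinite (h ≫ D.ι) := by rw [hh]; infer_instance
  have : LocallyQuasiFinite h := LocallyQuasiFinite.of_comp h D.ι
  have : QuasiCompact h := HasAffineProperty.iff_of_isAffine.mpr ‹CompactSpace V.toScheme›
  intro y'
  refine isFinite_fiber_of_finite _ _ ?_
  by_cases hy' : y' ∈ D
  · refine (h.finite_preimage_singleton ⟨y', hy'⟩).subset fun v hv => ?_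
    exact Subtype.ext ((congr($(hh) v) : D.ι (h v) = (V.ι ≫ f) v).trans hv)
  · refine Set.Finite.subset Set.finite_empty fun v hv => hy' ?_
    rw [← (show (V.ι ≫ f) v = y' from hv)]
    exact hVD v

variable [Flat f] [LocallyOfFinitePresentation f] [IsSeparated f] [LocallyQuasiFinite f]

/-- The locus where some finite piece has degree at least `d`. -/
def degLocus (d : ℕ) : S.Opens :=
  ⟨⋃ V : {V : X.Opens // FinOn f V}, {y | d ≤ DegStrat.deg (V.1.ι ≫ f) y},
    isOpen_iUnion fun V => DegStrat.isOpen_deg_ge (V.1.ι ≫ f) V.2 d⟩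

theorem mem_degLocus_iff {K : Type u} [Field K] (g : Spec (CommRingCat.of K) ⟶ S) (d : ℕ) :
    g (closedPoint K) ∈ degLocus f d ↔ (d : Cardinal.{u}) ≤ rk (pullback.snd f g) := by
  classical
  let c := pullback.snd f g
  have : LocallyQuasiFinite c := MorphismProperty.pullback_snd f g inferInstance
  have : LocallyOfFiniteType c := MorphismProperty.pullback_snd f g inferInstance
  have := discreteTopology_of_lqf c
  have hpt : ∀ p, f (pullback.fst f g p) = g (closedPoint K) := fun p => by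
    rw [← Scheme.Hom.comp_apply, pullback.condition, Scheme.Hom.comp_apply]
    exact congrArg g (Subsingleton.elim (α := PrimeSpectrum K) _ _)
  have hsq : ∀ V : X.Opens, IsPullback (pullback.fst f g ∣_ V)
      ((pullback.fst f g ⁻¹ᵁ V).ι ≫ c) (V.ι ≫ f) g := fun V =>
    (isPullback_morphismRestrict (pullback.fst f g) V).paste_vert (IsPullback.of_hasPullback f g)
  have hrk : ∀ V : X.Opens, FinOn f V → rk ((pullback.fst f g ⁻¹ᵁ V).ι ≫ c) =
      (DegStrat.deg (V.ι ≫ f) (g (closedPoint K)) : Cardinal.{u}) := fun V hV =>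
    rk_eq_deg (V.ι ≫ f) g (hsq V) (hV _)
  refine ⟨fun h => ?_, fun h => ?_⟩
  · obtain ⟨⟨V, hV⟩, hd⟩ := Set.mem_iUnion.1 h
    refine le_trans ?_ (rk_open_le c (pullback.fst f g ⁻¹ᵁ V))
    rw [hrk V hV]
    exact_mod_cast hd
  obtain ⟨F, hF⟩ : ∃ F : Finset ↥(pullback f g), d ≤ F.card ∨ ∀ p, p ∈ F := by
    cases finite_or_infinite ↥(pullback f g) with
    | inl hfi =>
      letI := Fintype.ofFinite ↥(pullback f g)
      exact ⟨Finset.univ, .inr Finset.mem_univ⟩
    | inr hinf =>
      obtain ⟨F, hF'⟩ := Infinite.exists_subset_card_eq ↥(pullback f g) d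
      exact ⟨F, .inl hF'.ge⟩
  obtain ⟨V, hV, hFV⟩ := exists_finOn_superset f ((pullback.fst f g) '' (F : Set _))
    (F.finite_toSet.image _) (g (closedPoint K)) (by rintro _ ⟨p, -, rfl⟩; exact hpt p)
  let W := pullback.fst f g ⁻¹ᵁ V
  have hFW : ∀ p ∈ F, p ∈ W := fun p hp => hFV _ ⟨p, hp, rfl⟩
  refine Set.mem_iUnion.2 ⟨⟨V, hV⟩, ?_⟩
  show d ≤ DegStrat.deg (V.ι ≫ f) (g (closedPoint K))
  rw [← @Nat.cast_le Cardinal.{u}, ← hrk V hV]
  rcases hF with hF | hF
  · have : LocallyQuasiFinite (W.ι ≫ c) := inferInstance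
    have : LocallyOfFiniteType (W.ι ≫ c) := inferInstance
    let incl : {p // p ∈ F} ↪ W.toScheme :=
      ⟨fun p => ⟨p.1, hFW p.1 p.2⟩, fun p q hpq => Subtype.ext (congrArg (fun z : W.toScheme => z.1) hpq)⟩
    refine le_trans ?_ (card_le_rk (W.ι ≫ c) (F.attach.map incl))
    rw [Finset.card_map, Finset.card_attach]
    exact_mod_cast hF
  · have : Finite ↥(pullback f g) := Finite.of_injective (β := F) (fun p => ⟨p, hF p⟩) fun p q h => congrArg Subtype.val h
    have := isFinite_of_finite c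
    have : Surjective W.ι := ⟨fun p => ⟨⟨p, hFW p (hF p)⟩, rfl⟩⟩
    have : IsIso W.ι := (isIso_iff_isOpenImmersion_and_surjective W.ι).2 ⟨inferInstance, inferInstance⟩
    have : Flat c := MorphismProperty.pullback_snd f g inferInstance
    refine le_of_le_of_eq h ?_
    rw [rk_eq_finrank, rk_eq_finrank, Scheme.Hom.finrank_comp_left_of_isIso]

end Groth.Agent.DegRank
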