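import Groth.Agent.Lib.Weight4.GeomSum

/-!
# Lifts landing in an open of a base change
-/

universe u

open AlgebraicGeometry CategoryTheory Limits IsLocalRing

namespace Groth.Agent.Weight

variable {Ω : Type u} [Field Ω] {X Y P T : Scheme.{u}} {f : X ⟶ Y} {g : T ⟶ Y} {qX : P ⟶ X}
  {p : P ⟶ T}

/-- `b` is a lift over `t` whose point in the base change lies in `A`. -/
def InLift (H : IsPullback qX p f g) (A : P.Opens) (t : Spec (CommRingCat.of Ω) ⟶ T)
    (b : Spec (CommRingCat.of Ω) ⟶ X) : Prop :=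
  ∃ hb : b ≫ f = t ≫ g, pt (H.lift b t hb) ∈ A

/-- Sum of `w` over the lifts in `A`. -/
noncomputable def sumOn (H : IsPullback qX p f g) (A : P.Opens) (w : X → ℤ)
    (t : Spec (CommRingCat.of Ω) ⟶ T) : ℤ :=
  ∑ᶠ b : {b : Spec (CommRingCat.of Ω) ⟶ X // InLift H A t b}, w (pt b.1)

theorem inLift_iff {H : IsPullback qX p f g} {A : P.Opens} {t : Spec (CommRingCat.of Ω) ⟶ T}
    {b : Spec (CommRingCat.of Ω) ⟶ X} :
    InLift H A t b ↔ ∃ c : Spec (CommRingCat.of Ω) ⟶ P, c ≫ qX = b ∧ c ≫ p = t ∧ pt c ∈ A := by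
  refine ⟨fun ⟨hb, h⟩ => ⟨_, H.lift_fst b t hb, H.lift_snd b t hb, h⟩, ?_⟩
  rintro ⟨c, rfl, rfl, h⟩
  have hb : (c ≫ qX) ≫ f = (c ≫ p) ≫ g := by rw [Category.assoc, Category.assoc, H.w]
  refine ⟨hb, ?_⟩
  rwa [show H.lift (c ≫ qX) (c ≫ p) hb = c from H.hom_ext (H.lift_fst ..) (H.lift_snd ..)]

/-- A lift into an open subscheme. -/
noncomputable def liftOpen (A : P.Opens) (c : Spec (CommRingCat.of Ω) ⟶ P) (h : pt c ∈ A) :
    Spec (CommRingCat.of Ω) ⟶ (A : Scheme.{u}) :=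
  IsOpenImmersion.lift A.ι c (by
    rintro _ ⟨z, rfl⟩
    rw [Scheme.Opens.range_ι, Subsingleton.elim z (closedPoint Ω)]
    exact h)

@[simp] theorem liftOpen_ι (A : P.Opens) (c : Spec (CommRingCat.of Ω) ⟶ P) (h : pt c ∈ A) :
    liftOpen A c h ≫ A.ι = c := IsOpenImmersion.lift_fac ..

/-- Lifts in `A` are lifts of `A.ι ≫ p`. -/
noncomputable def inLiftEquiv (H : IsPullback qX p f g) (A : P.Opens)
    (t : Spec (CommRingCat.of Ω) ⟶ T) :
    {a : Spec (CommRingCat.of Ω) ⟶ (A : Scheme.{u}) // a ≫ A.ι ≫ p = t} ≃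
      {b : Spec (CommRingCat.of Ω) ⟶ X // InLift H A t b} where
  toFun a := ⟨a.1 ≫ A.ι ≫ qX, inLift_iff.2 ⟨a.1 ≫ A.ι, Category.assoc .., by
    rw [Category.assoc]; exact a.2, (a.1 (closedPoint Ω)).2⟩⟩
  invFun b := ⟨liftOpen A (H.lift b.1 t b.2.1) b.2.2, by
    rw [← Category.assoc, liftOpen_ι, H.lift_snd]⟩
  left_inv a := by
    apply Subtype.ext
    rw [← cancel_mono A.ι, liftOpen_ι]
    exact H.hom_ext (by rw [H.lift_fst, Category.assoc]) (by rw [H.lift_snd, Category.assoc]; exact a.2.symm)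
  right_inv b := by
    apply Subtype.ext
    show liftOpen A (H.lift b.1 t b.2.1) b.2.2 ≫ A.ι ≫ qX = b.1
    rw [← Category.assoc, liftOpen_ι, H.lift_fst]

variable [IsAlgClosed Ω]

theorem finite_inLift (H : IsPullback qX p f g) (A : P.Opens) [IsFinite (A.ι ≫ p)]
    (t : Spec (CommRingCat.of Ω) ⟶ T) :
    Finite {b : Spec (CommRingCat.of Ω) ⟶ X // InLift H A t b} := by
  haveI := finite_lifts (A.ι ≫ p) (fun z => (A.ι ≫ p).quasiFiniteAt z) t
    ((A.ι ≫ p).finite_preimage_singleton _)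
  exact Finite.of_equiv _ (inLiftEquiv H A t)

/-- The fibre integral on an open finite over the base is the sum over lifts. -/
theorem fibreIntegral_eq_sumOn (H : IsPullback qX p f g) (A : P.Opens) [IsFinite (A.ι ≫ p)]
    (w : X → ℤ) (t : Spec (CommRingCat.of Ω) ⟶ T) (v : T) (hv : pt t = v) :
    MoreMor.fibreIntegral (A.ι ≫ p) (fun z => w (qX (A.ι z))) v = sumOn H A w t := by
  rw [fibreIntegral_eq (A.ι ≫ p) (fun z => (A.ι ≫ p).quasiFiniteAt z) _ t v hv
    ((A.ι ≫ p).finite_preimage_singleton _)]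
  exact finsum_eq_of_bijective _ (inLiftEquiv H A t).bijective fun a => rfl

omit [IsAlgClosed Ω] in
/-- Lifts in `A` only depend on the set of admissible `b`. -/
theorem sumOn_congr {T' P' : Scheme.{u}} {g' : T' ⟶ Y} {qX' : P' ⟶ X} {p' : P' ⟶ T'}
    (H : IsPullback qX p f g) (H' : IsPullback qX' p' f g') (A : P.Opens) (A' : P'.Opens)
    (w : X → ℤ) (t : Spec (CommRingCat.of Ω) ⟶ T) (t' : Spec (CommRingCat.of Ω) ⟶ T')
    (h : ∀ b, InLift H A t b ↔ InLift H' A' t' b) : sumOn H A w t = sumOn H' A' w t' :=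
  finsum_eq_of_bijective _ (Equiv.subtypeEquivRight h).bijective fun _ => rfl

omit [IsAlgClosed Ω] in
/-- A single lift. -/
theorem sumOn_singleton (H : IsPullback qX p f g) (A : P.Opens) (w : X → ℤ)
    (t : Spec (CommRingCat.of Ω) ⟶ T) (a : Spec (CommRingCat.of Ω) ⟶ X)
    (h : ∀ b, InLift H A t b ↔ b = a) : sumOn H A w t = w (pt a) := by
  haveI : Unique {b : Spec (CommRingCat.of Ω) ⟶ X // InLift H A t b} :=
    { default := ⟨a, (h a).2 rfl⟩
      uniq := fun b => Subtype.ext ((h b.1).1 b.2) }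
  rw [sumOn, finsum_unique]; rw [(h _).1 (default : {b : Spec (CommRingCat.of Ω) ⟶ X // InLift H A t b}).2]

theorem sumOn_congr_geom (H : IsPullback qX p f g) (A : P.Opens) [IsFinite (A.ι ≫ p)] (w : X → ℤ)
    {Ω' : Type u} [Field Ω'] [IsAlgClosed Ω'] (t : Spec (CommRingCat.of Ω) ⟶ T)
    (t' : Spec (CommRingCat.of Ω') ⟶ T) (h : pt t = pt t') : sumOn H A w t = sumOn H A w t' := by
  rw [← fibreIntegral_eq_sumOn H A w t _ rfl, ← fibreIntegral_eq_sumOn H A w t' _ h.symm]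

end Groth.Agent.Weight
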