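import Groth.Agent.Lib.Weight4.BaseChange
import Groth.Agent.Lib.Descend.QuasiFinite
import Mathlib.FieldTheory.PurelyInseparable.Basic
import Mathlib.AlgebraicGeometry.Morphisms.Separated

/-!
# Splitting finitely many quasi-finite points by étale localisation
-/

universe u

open AlgebraicGeometry CategoryTheory Limits IsLocalRing

namespace Groth.Agent.Weight

variable {X S : Scheme.{u}}

/-- Quasi-finiteness at a point is preserved by base change. -/
theorem quasiFiniteAt_pullback_snd {T : Scheme.{u}} (f : X ⟶ S) [LocallyOfFiniteType f] (g : T ⟶ S)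
    (w : ↥(pullback f g)) (hw : f.QuasiFiniteAt (pullback.fst f g w)) :
    (pullback.snd f g).QuasiFiniteAt w := by
  let V := f.quasiFiniteLocus
  haveI : LocallyQuasiFinite (V.ι ≫ f) := by
    rw [← Scheme.Hom.quasiFiniteLocus_eq_top_iff, Scheme.Hom.quasiFiniteLocus_comp]
    exact Scheme.Opens.ι_preimage_self V
  let V' := pullback.fst f g ⁻¹ᵁ V
  have hsq : IsPullback (pullback.fst f g ∣_ V) (V'.ι ≫ pullback.snd f g) (V.ι ≫ f) g :=
    (isPullback_morphismRestrict (pullback.fst f g) V).paste_vert (IsPullback.of_hasPullback f g)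
  haveI : LocallyQuasiFinite (V'.ι ≫ pullback.snd f g) :=
    MorphismProperty.of_isPullback hsq ‹LocallyQuasiFinite (V.ι ≫ f)›
  exact Scheme.Hom.quasiFiniteAt_comp_iff_of_isOpenImmersion.1
    ((V'.ι ≫ pullback.snd f g).quasiFiniteAt ⟨w, hw⟩)

variable (f : X ⟶ S) [LocallyOfFiniteType f]

/-- Enumerated geometric points over finitely many quasi-finite points of a fibre, and their splitting. -/
theorem exists_split_points (s : S) {ι : Type} [Finite ι] (x : ι → X) (hinj : Function.Injective x)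
    (hs : ∀ i, f (x i) = s) (hx : ∀ i, f.QuasiFiniteAt (x i)) :
    ∃ (Ω : Type u) (_ : Field Ω) (_ : IsAlgClosed Ω) (t : Spec (CommRingCat.of Ω) ⟶ S) (n : ι → ℕ)
      (a : (Σ i, Fin (n i)) → (Spec (CommRingCat.of Ω) ⟶ X)) (U : Scheme.{u}) (g : U ⟶ S)
      (ū : Spec (CommRingCat.of Ω) ⟶ U) (W : (Σ i, Fin (n i)) → (pullback f g).Opens),
      pt t = s ∧ Function.Injective a ∧ (∀ l, pt (a l) = x l.1) ∧
      (∀ i b, b ≫ f = t → pt b = x i → ∃ l, a l = b ∧ l.1 = i) ∧
      Etale g ∧ ū ≫ g = t ∧ (∀ l, IsFinite ((W l).ι ≫ pullback.snd f g)) ∧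
      ∀ l b, InLift (IsPullback.of_hasPullback f g) (W l) ū b ↔ b = a l := by
  classical
  obtain ⟨t, ht⟩ := exists_geomPt s
  let Ω := AlgebraicClosure (S.residueField s)
  let K := fun i => {b : Spec (CommRingCat.of Ω) ⟶ X // b ≫ f = t ∧ pt b = x i}
  haveI : ∀ i, Finite (K i) := fun i => (natCard_lifts_over f (x i) (hx i) t (by rw [hs, ht])).2
  let n := fun i => Nat.card (K i)
  let a : (Σ i, Fin (n i)) → (Spec (CommRingCat.of Ω) ⟶ X) := fun l =>
    ((Finite.equivFin (K l.1)).symm l.2).1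
  have hpt : ∀ l, pt (a l) = x l.1 := fun l => ((Finite.equivFin (K l.1)).symm l.2).2.2
  have hainj : Function.Injective a := by
    rintro ⟨i, j⟩ ⟨i', j'⟩ h
    obtain rfl : i = i' := hinj ((hpt ⟨i, j⟩).symm.trans ((congrArg pt h).trans (hpt ⟨i', j'⟩)))
    obtain rfl : j = j' := (Finite.equivFin (K i)).symm.injective (Subtype.ext h)
    rfl
  obtain ⟨U, g, ū, W, hg, hū, hfin, huniq⟩ := exists_split f t a
    (fun l => ((Finite.equivFin (K l.1)).symm l.2).2.1) (fun l => by rw [hpt]; exact hx _)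
  refine ⟨Ω, inferInstance, inferInstance, t, n, a, U, g, ū, W, ht, hainj, hpt, ?_, hg, hū, hfin, huniq⟩
  intro i b hb hbx
  exact ⟨⟨i, Finite.equivFin (K i) ⟨b, hb, hbx⟩⟩, by simp [a], rfl⟩

variable {f} {U : Scheme.{u}} {g : U ⟶ S} {Ω : Type u} [Field Ω] [IsAlgClosed Ω]
  {ū : Spec (CommRingCat.of Ω) ⟶ U} {W : (pullback f g).Opens} {a : Spec (CommRingCat.of Ω) ⟶ X}

/-- The point of a piece with one geometric point. -/
theorem piece_props [IsFinite (W.ι ≫ pullback.snd f g)]
    (huniq : ∀ b, InLift (IsPullback.of_hasPullback f g) W ū b ↔ b = a) :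
    ∃ v : ↥(pullback f g), v ∈ W ∧ pullback.snd f g v = pt ū ∧ pullback.fst f g v = pt a ∧
      (∀ w, w ∈ W → pullback.snd f g w = pt ū → w = v) ∧
      (∀ c : Spec (CommRingCat.of Ω) ⟶ pullback f g, c ≫ pullback.snd f g = ū →
        c ≫ pullback.fst f g = a → pt c = v) ∧
      (letI := ((pullback.snd f g).residueFieldMap v).hom.toAlgebra
       Module.Finite ↑(U.residueField (pullback.snd f g v)) ↑((pullback f g).residueField v) ∧
       IsPurelyInseparable ↑(U.residueField (pullback.snd f g v)) ↑((pullback f g).residueField v)) := by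
  let H := IsPullback.of_hasPullback f g
  obtain ⟨ha, hmem⟩ := (huniq a).2 rfl
  let v := pt (H.lift a ū ha)
  have hv2 : pullback.snd f g v = pt ū := by rw [← pt_comp, H.lift_snd]
  have huniqv : ∀ w, w ∈ W → pullback.snd f g w = pt ū → w = v := by
    intro w hw hwu
    obtain ⟨b, hb, hbw⟩ := exists_inLift_of_mem H W ū w hw hwu
    obtain rfl : b = a := (huniq b).1 hb
    exact (hbw ha).symm
  refine ⟨v, hmem, hv2, by rw [← pt_comp, H.lift_fst], huniqv, fun c hc hca => ?_, ?_⟩
  · show pt c = pt (H.lift a ū ha)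
    congr 1
    exact H.hom_ext (hca.trans (H.lift_fst ..).symm) (hc.trans (H.lift_snd ..).symm)
  · letI := ((pullback.snd f g).residueFieldMap v).hom.toAlgebra
    have hq : (pullback.snd f g).QuasiFiniteAt v :=
      (Scheme.Hom.quasiFiniteAt_comp_iff_of_isOpenImmersion (f := W.ι) (g := pullback.snd f g)
        (x := (⟨v, hmem⟩ : W))).1 ((W.ι ≫ pullback.snd f g).quasiFiniteAt ⟨v, hmem⟩)
    have hfin := RingHom.finite_algebraMap.mp (finite_residueFieldMap _ v hq)
    haveI := hfin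
    refine ⟨hfin, (isPurelyInseparable_iff_finSepDegree_eq_one _ _).2 ?_⟩
    obtain ⟨hcard, hF⟩ := natCard_lifts_over (pullback.snd f g) v hq ū hv2
    rw [← hcard, Nat.card_eq_one_iff_unique]
    refine ⟨⟨fun c c' => Subtype.ext ?_⟩, ⟨⟨H.lift a ū ha, H.lift_snd .., rfl⟩⟩⟩
    have key : ∀ c : {c : Spec (CommRingCat.of Ω) ⟶ pullback f g // c ≫ pullback.snd f g = ū ∧ pt c = v},
        c.1 ≫ pullback.fst f g = a := fun c =>
      (huniq _).1 (inLift_iff.2 ⟨c.1, rfl, c.2.1, by rw [c.2.2]; exact hmem⟩)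
    exact pullback.hom_ext ((key c).trans (key c').symm) (c.2.1.trans c'.2.1.symm)

end Groth.Agent.Weight
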