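import Groth.Agent.Lib.Weight4.OpenLifts
import Groth.Agent.Lib.AlgSpace.RadicialPiece
import Mathlib.AlgebraicGeometry.Morphisms.Etale
import Mathlib.AlgebraicGeometry.ZariskisMainTheorem
import Mathlib.RingTheory.Unramified.LocalStructure

/-!
# A finite piece with one geometric point, after an étale localisation
-/

universe u

open AlgebraicGeometry CategoryTheory Limits IsLocalRing TensorProduct

namespace Groth.Agent.Weight

/-- A geometric point of `S` at a quasi-finite prime extends to the radicial piece. -/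
theorem exists_extension {R S R' Ω : Type u} [CommRing R] [CommRing S] [CommRing R'] [Field Ω]
    [IsAlgClosed Ω] [Algebra R S] [Algebra R R'] [Algebra.Etale R R'] (α : S →+* Ω)
    (q : Ideal S) [q.IsPrime] (hq : RingHom.ker α = q)
    (P' : Ideal (R' ⊗[R] S)) [P'.IsPrime]
    (hP' : P'.comap Algebra.TensorProduct.includeRight.toRingHom = q) :
    ∃ σ : R' ⊗[R] S →+* Ω, RingHom.ker σ = P' ∧
      σ.comp Algebra.TensorProduct.includeRight.toRingHom = α := by
  let c := Algebra.TensorProduct.comm R S R'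
  let Q : Ideal (S ⊗[R] R') := P'.comap c.toAlgHom.toRingHom
  haveI : Q.LiesOver q := ⟨by
    rw [← hP']
    ext s
    show (1 : R') ⊗ₜ s ∈ P' ↔ c (s ⊗ₜ[R] (1 : R')) ∈ P'
    simp [c]⟩
  haveI : Algebra.QuasiFinite R R' := inferInstance
  letI := Localization.AtPrime.algebraOfLiesOver q Q
  haveI : Module.Finite q.ResidueField Q.ResidueField := inferInstance
  let αq : q.ResidueField →+* Ω := Ideal.ResidueField.lift q α hq.ge fun s hs => by
    show IsUnit (α s)
    exact isUnit_iff_ne_zero.2 fun h => hs (hq.le (RingHom.mem_ker.2 h))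
  letI : Algebra q.ResidueField Ω := αq.toAlgebra
  let σQ : Q.ResidueField →ₐ[q.ResidueField] Ω := IsAlgClosed.lift
  refine ⟨(σQ.toRingHom.comp (algebraMap (S ⊗[R] R') Q.ResidueField)).comp c.symm.toAlgHom.toRingHom, ?_, ?_⟩
  · ext z
    rw [RingHom.mem_ker]
    show σQ (algebraMap _ Q.ResidueField (c.symm z)) = 0 ↔ _
    rw [map_eq_zero, ← RingHom.mem_ker, Ideal.ker_algebraMap_residueField]
    show c (c.symm z) ∈ P' ↔ _
    rw [AlgEquiv.apply_symm_apply]
  · ext s
    show σQ (algebraMap _ Q.ResidueField (c.symm ((1 : R') ⊗ₜ s))) = α s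
    have hs : c.symm ((1 : R') ⊗ₜ s) = algebraMap S (S ⊗[R] R') s := rfl
    rw [hs, ← IsScalarTower.algebraMap_apply, IsScalarTower.algebraMap_apply S q.ResidueField Q.ResidueField,
      AlgHom.commutes]
    exact Ideal.ResidueField.lift_algebraMap q α _ _ s

variable {Ω : Type u} [Field Ω] [IsAlgClosed Ω]

/-- Splitting off one geometric point. -/
theorem exists_split_one {X S : Scheme.{u}} (f : X ⟶ S) [LocallyOfFiniteType f]
    (a : Spec (CommRingCat.of Ω) ⟶ X) (ha : f.QuasiFiniteAt (pt a)) :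
    ∃ (U : Scheme.{u}) (g : U ⟶ S) (ū : Spec (CommRingCat.of Ω) ⟶ U) (W : (pullback f g).Opens),
      Etale g ∧ ū ≫ g = a ≫ f ∧ IsFinite (W.ι ≫ pullback.snd f g) ∧
      ∀ b, InLift (IsPullback.of_hasPullback f g) W ū b ↔ b = a := by
  obtain ⟨U, hU, hxU, -⟩ :=
    exists_isAffineOpen_mem_and_subset (X := S) (x := f (pt a)) (U := ⊤) trivial
  obtain ⟨V, hV, hxV, hUV⟩ :=
    exists_isAffineOpen_mem_and_subset (X := X) (x := pt a) (U := f ⁻¹ᵁ U) hxU
  have hft : (f.appLE U V hUV).hom.FiniteType := f.finiteType_appLE hU hV hUV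
  algebraize [(f.appLE U V hUV).hom]
  have hVrange : Set.range a ⊆ Set.range hV.fromSpec := by
    rintro _ ⟨z, rfl⟩
    rw [hV.range_fromSpec, Subsingleton.elim z (closedPoint Ω)]
    exact hxV
  obtain ⟨αc, hαc⟩ := Spec.map_surjective (IsOpenImmersion.lift hV.fromSpec a hVrange)
  have haα : Spec.map αc ≫ hV.fromSpec = a := by rw [hαc, IsOpenImmersion.lift_fac]
  let q := RingHom.ker αc.hom
  haveI : q.IsPrime := RingHom.ker_isPrime _
  have hqx : (hV.primeIdealOf ⟨pt a, hxV⟩).asIdeal = q := by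
    have h1 : hV.fromSpec (Spec.map αc (closedPoint Ω)) = pt a := by
      rw [← Scheme.Hom.comp_apply, haα]
    have h2 : hV.primeIdealOf ⟨pt a, hxV⟩ = Spec.map αc (closedPoint Ω) :=
      hV.fromSpec.isOpenEmbedding.injective (by rw [hV.fromSpec_primeIdealOf, h1])
    rw [h2]
    show (PrimeSpectrum.comap αc.hom (closedPoint Ω)).asIdeal = _
    rw [PrimeSpectrum.comap_asIdeal]
    show Ideal.comap αc.hom (IsLocalRing.maximalIdeal Ω) = _
    rw [IsLocalRing.maximalIdeal_eq_bot]
    rfl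
  haveI : Algebra.QuasiFiniteAt Γ(S, U) q := by
    have := ha.quasiFiniteAt hV hU hUV hxV
    simp only [← hqx]
    exact this
  obtain ⟨R', _, _, _, P, _, e, _, P', _, _, hP'q, heP', hfin, huniq, hrad⟩ :=
    AlgSpace.exists_etale_finite_radicial_piece (R := Γ(S, U)) q
  obtain ⟨σ, hσ, hσα⟩ := exists_extension αc.hom q rfl P' hP'q
  have : (algebraMap R' (Localization.Away e)).Finite := RingHom.finite_algebraMap.mpr hfin
  let φ : Γ(S, U) ⟶ .of R' := CommRingCat.ofHom <| algebraMap Γ(S, U) R'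
  have hφ : φ.hom.Etale := RingHom.etale_algebraMap.mpr ‹_›
  have : Etale (Spec.map φ) := HasRingHomProperty.Spec_iff.mpr hφ
  let e₁ : Spec (.of (R' ⊗[Γ(S, U)] Γ(X, V))) ≅ pullback (Spec.map (f.appLE U V hUV)) (Spec.map φ) :=
    (pullbackSpecIso _ _ _).symm ≪≫ pullbackSymmetry _ _
  let g : Spec (.of (R' ⊗[Γ(S, U)] Γ(X, V))) ⟶ pullback f (Spec.map φ ≫ hU.fromSpec) :=
    e₁.hom ≫ pullback.map _ _ _ _ hV.fromSpec (𝟙 _) hU.fromSpec
      (IsAffineOpen.SpecMap_appLE_fromSpec ..) (by simp)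
  haveI : IsOpenImmersion g := inferInstance
  have he₁fst : e₁.hom ≫ pullback.fst _ _ =
      Spec.map (CommRingCat.ofHom Algebra.TensorProduct.includeRight.toRingHom) := by
    dsimp [e₁, RingHom.algebraMap_toAlgebra]
    rw [Category.assoc, pullbackSymmetry_hom_comp_fst]
    exact pullbackSpecIso_inv_snd ..
  have he₁snd : e₁.hom ≫ pullback.snd _ _ =
      Spec.map (CommRingCat.ofHom (algebraMap R' (R' ⊗[Γ(S, U)] Γ(X, V)))) := by
    dsimp [e₁, RingHom.algebraMap_toAlgebra]
    rw [Category.assoc, pullbackSymmetry_hom_comp_snd]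
    exact pullbackSpecIso_inv_fst ..
  have hgfst : g ≫ pullback.fst _ _ = Spec.map (CommRingCat.ofHom
      Algebra.TensorProduct.includeRight.toRingHom) ≫ hV.fromSpec := by
    simp only [g, Category.assoc, pullback.map, pullback.lift_fst, reassoc_of% he₁fst]
  have hgsnd : g ≫ pullback.snd _ _ = Spec.map (CommRingCat.ofHom (algebraMap R' _)) := by
    simp only [g, Category.assoc, pullback.map, pullback.lift_snd, Category.comp_id, he₁snd]
  let W₁ := g ''ᵁ PrimeSpectrum.basicOpen e
  have hW₁ : IsFinite (W₁.ι ≫ pullback.snd f _) := by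
    let ι : Spec (.of (Localization.Away e)) ⟶ pullback f (Spec.map φ ≫ hU.fromSpec) :=
      Spec.map (CommRingCat.ofHom <| algebraMap _ _) ≫ g
    have : ι.opensRange = W₁ := by
      simp only [Scheme.Hom.opensRange_comp, ι, W₁]
      congr 1
      exact TopologicalSpace.Opens.ext <| PrimeSpectrum.localization_away_comap_range _ _
    rw [← this, ← MorphismProperty.cancel_left_of_respectsIso @IsFinite
      (Scheme.Hom.isoOpensRange _).hom]
    have H : ι ≫ pullback.snd f _ = Spec.map (CommRingCat.ofHom (algebraMap R' (Localization.Away e))) := by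
      show (Spec.map _ ≫ g) ≫ _ = _
      rw [Category.assoc, hgsnd, ← Spec.map_comp, ← CommRingCat.ofHom_comp,
        ← IsScalarTower.algebraMap_eq]
    simp only [Scheme.Hom.isoOpensRange, IsOpenImmersion.isoOfRangeEq_hom_fac_assoc]
    rw [H]
    rw [IsFinite.SpecMap_iff]
    exact ‹(algebraMap R' (Localization.Away e)).Finite›
  let ū : Spec (CommRingCat.of Ω) ⟶ Spec (.of R') :=
    Spec.map (CommRingCat.ofHom (σ.comp (algebraMap R' _)))
  let cσ : Spec (CommRingCat.of Ω) ⟶ pullback f (Spec.map φ ≫ hU.fromSpec) :=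
    Spec.map (CommRingCat.ofHom σ) ≫ g
  have hcfst : cσ ≫ pullback.fst _ _ = a := by
    show (Spec.map _ ≫ g) ≫ _ = _
    rw [Category.assoc, hgfst, ← Category.assoc, ← Spec.map_comp, ← CommRingCat.ofHom_comp, hσα]
    exact haα
  have hcsnd : cσ ≫ pullback.snd _ _ = ū := by
    show (Spec.map _ ≫ g) ≫ _ = _
    rw [Category.assoc, hgsnd, ← Spec.map_comp, ← CommRingCat.ofHom_comp]
  have hker : ∀ τ : R' ⊗[Γ(S, U)] Γ(X, V) →+* Ω,
      Spec.map (CommRingCat.ofHom τ) (closedPoint Ω) = ⟨RingHom.ker τ, RingHom.ker_isPrime τ⟩ := by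
    intro τ
    refine PrimeSpectrum.ext ?_
    show Ideal.comap τ (IsLocalRing.maximalIdeal Ω) = _
    rw [IsLocalRing.maximalIdeal_eq_bot]
    rfl
  refine ⟨Spec (.of R'), Spec.map φ ≫ hU.fromSpec, ū, W₁, inferInstance, ?_, hW₁, fun b => ?_⟩
  · conv_rhs => rw [← hcfst, Category.assoc, pullback.condition, ← Category.assoc, hcsnd]
  rw [inLift_iff]
  constructor
  · rintro ⟨c, rfl, hc, z, hze, hz⟩
    have hrange : Set.range c ⊆ Set.range g := by
      rintro _ ⟨w, rfl⟩
      exact ⟨z, hz.trans (congrArg c (Subsingleton.elim (closedPoint Ω) w))⟩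
    obtain ⟨τc, hτc⟩ := Spec.map_surjective (IsOpenImmersion.lift g c hrange)
    have hcτ : Spec.map τc ≫ g = c := by rw [hτc, IsOpenImmersion.lift_fac]
    have hτσ : τc.hom.comp (algebraMap R' _) = σ.comp (algebraMap R' _) := by
      have h1 : Spec.map (CommRingCat.ofHom (τc.hom.comp (algebraMap R' _))) =
          Spec.map (CommRingCat.ofHom (σ.comp (algebraMap R' _))) := by
        show _ = ū
        rw [← hc, ← hcτ, Category.assoc, hgsnd, ← Spec.map_comp]
        rfl
      exact congrArg CommRingCat.Hom.hom (Spec.map_injective h1)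
    have hzτ : z = ⟨RingHom.ker τc.hom, RingHom.ker_isPrime _⟩ := by
      rw [← hker]
      apply g.isOpenEmbedding.injective
      refine hz.trans ?_
      rw [← Scheme.Hom.comp_apply]
      show c (closedPoint Ω) = (Spec.map τc ≫ g) (closedPoint Ω)
      rw [hcτ]
    have hover : (RingHom.ker τc.hom).LiesOver P := ⟨by
      rw [Ideal.over_def P' P, ← hσ]
      ext r
      show σ (algebraMap R' _ r) = 0 ↔ τc.hom (algebraMap R' _ r) = 0
      rw [← RingHom.comp_apply, ← RingHom.comp_apply, hτσ]⟩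
    have hkerτ : RingHom.ker τc.hom = P' :=
      huniq _ (RingHom.ker_isPrime _) hover fun h => by
        rw [hzτ] at hze
        exact hze h
    have hτ : τc.hom = σ := hrad Ω τc.hom σ hkerτ hσ hτσ
    rw [← hcfst, ← hcτ]
    show _ = (Spec.map (CommRingCat.ofHom σ) ≫ g) ≫ _
    rw [← hτ]
    rfl
  · rintro rfl
    refine ⟨cσ, hcfst, hcsnd, ⟨RingHom.ker σ, RingHom.ker_isPrime σ⟩, ?_, ?_⟩
    · show e ∉ RingHom.ker σ
      rw [hσ]; exact heP'
    · rw [← hker]; rfl

end Groth.Agent.Weight
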